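import Groth.Agent.Pi1Ext.GDesc.Main
import Groth.Agent.Stein5Sect.Clopen
import Groth.Agent.S1327
import Groth.Agent.FBaseLib.Basic
import Groth.Agent.Pi1X.FEtGalois
import Groth.Agent.Pi1Ext.GeomDescend
import Mathlib.AlgebraicGeometry.AlgClosed.Basic

/-!
# Connected covers with a section over one geometric fibre come from the base
-/

set_option linter.style.haveILetI false
set_option backward.isDefEq.respectTransparency false
set_option backward.isDefEq.respectTransparency.types false

universe u

open CategoryTheory CategoryTheory.Limits AlgebraicGeometry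

noncomputable section

namespace Groth.Agent.Pi1Ext.GDesc.Sect

open Groth.Agent FAlg

variable {X S : Scheme.{u}} (f : X ⟶ S)

/-- Reducedness of geometric fibres gives geometric reducedness. -/
theorem geometricallyReduced_of_isAlgClosed
    (h : ∀ (Ω : Type u) [Field Ω] [IsAlgClosed Ω] (s : Spec (CommRingCat.of Ω) ⟶ S), IsReduced (pullback f s)) :
    GeometricallyReduced f := by
  refine ⟨geometrically_iff_of_isClosedUnderIsomorphisms.mpr fun K _ y => ?_⟩
  let i := Spec.map (CommRingCat.ofHom (algebraMap K (AlgebraicClosure K)))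
  haveI : Surjective i := GrpSchLib.surjective_spec_map_field _
  haveI : Flat i := (HasRingHomProperty.Spec_iff (P := @Flat)).mpr
    (RingHom.flat_algebraMap_iff.mpr inferInstance)
  haveI := h (AlgebraicClosure K) (i ≫ y)
  let q : pullback f (i ≫ y) ⟶ pullback f y :=
    pullback.lift (pullback.fst f (i ≫ y)) (pullback.snd f (i ≫ y) ≫ i) (by rw [pullback.condition, Category.assoc])
  have H : IsPullback q (pullback.snd f (i ≫ y)) (pullback.snd f y) i :=
    IsPullback.of_right (v₁₃ := f) (h₁₂ := pullback.fst f y) (h₂₂ := y)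
      (by rw [pullback.lift_fst]; exact IsPullback.of_hasPullback f (i ≫ y))
      (pullback.lift_snd _ _ _) (IsPullback.of_hasPullback f y)
  haveI : Surjective q := MorphismProperty.of_isPullback (P := @Surjective) H.flip inferInstance
  haveI : Flat q := MorphismProperty.of_isPullback (P := @Flat) H.flip inferInstance
  exact FBaseLib.isReduced_of_flat_surjective q

variable (hfib : ∀ (Ω : Type u) [Field Ω] [IsAlgClosed Ω] (s : Spec (CommRingCat.of Ω) ⟶ S),
  ConnectedSpace ↥(pullback f s) ∧ IsReduced (pullback f s)) (Y : FEt.Cat X)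

/-- The structure map of the cover to the base. -/
abbrev g : Y.left ⟶ S := Y.hom ≫ f

include hfib in
/-- The cover has geometrically reduced fibres. -/
theorem geometricallyReduced_comp : GeometricallyReduced (g f Y) := by
  haveI : IsFinite Y.hom := Y.prop.1
  haveI : Etale Y.hom := Y.prop.2
  refine geometricallyReduced_of_isAlgClosed _ fun Ω _ _ s => ?_
  haveI := (hfib Ω s).2
  let q : pullback (g f Y) s ⟶ pullback f s :=
    pullback.lift (pullback.fst _ _ ≫ Y.hom) (pullback.snd _ _) (by rw [Category.assoc]; exact pullback.condition)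
  have H : IsPullback (pullback.fst (g f Y) s) q Y.hom (pullback.fst f s) := by
    refine IsPullback.of_bot ?_ (pullback.lift_fst _ _ _).symm (IsPullback.of_hasPullback f s)
    rw [pullback.lift_snd]
    exact IsPullback.of_hasPullback _ s
  haveI : IsFinite q := MorphismProperty.of_isPullback (P := @IsFinite) H ‹_›
  haveI : Etale q := MorphismProperty.of_isPullback (P := @Etale) H ‹_›
  exact Pi1X.isReduced_of_finite_etale_scheme q

variable [IsProper f] [Flat f] [LocallyOfFinitePresentation f]

include hfib in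
/-- The map `Y ×_S X ⟶ Y` over `X` extending the identity. -/
theorem exists_spread [ConnectedSpace Y.left] (Ω : Type u) [Field Ω] [IsAlgClosed Ω]
    (s : Spec (CommRingCat.of Ω) ⟶ S) (σ : pullback f s ⟶ Y.left) (hσ : σ ≫ Y.hom = pullback.fst f s) :
    ∃ Θ : pullback (g f Y) f ⟶ Y.left, Θ ≫ Y.hom = pullback.snd (g f Y) f ∧
      pullback.lift (𝟙 Y.left) Y.hom (Category.id_comp _) ≫ Θ = 𝟙 _ := by
  haveI : IsFinite Y.hom := Y.prop.1
  haveI : Etale Y.hom := Y.prop.2
  let γ : Y.left ⟶ S := Y.hom ≫ f
  haveI : IsProper γ := inferInstance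
  haveI : Flat γ := inferInstance
  haveI : LocallyOfFinitePresentation γ := inferInstance
  haveI : GeometricallyReduced γ := geometricallyReduced_comp f hfib Y
  have hconn := fun (K : Type u) [Field K] [IsAlgClosed K] (ξ : Spec (CommRingCat.of K) ⟶ S) => (hfib K ξ).1
  haveI := surjective_of_connected_fibres f hconn
  haveI := geoConn_of_proper f hconn
  -- the source is connected
  let P := pullback γ f
  let pr : P ⟶ Y.left := pullback.fst γ f
  haveI := GeoConn.pullback_fst f γ
  haveI : ConnectedSpace ↥P :=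
    (Groth.Agent.S2916.result pr GeoConn.subm (GeoConn.conn (g := pr))).1 inferInstance
  -- the components through the diagonal
  let h : pullback γ γ ⟶ Y.left := pullback.snd γ γ
  let e : Y.left ⟶ pullback γ γ := pullback.lift (𝟙 _) (𝟙 _) rfl
  have he : e ≫ h = 𝟙 _ := pullback.lift_snd _ _ _
  have hopen : IsOpen (MoreMor.sectionComponents h e) := by
    rw [← interior_eq_iff_isOpen]
    refine subset_antisymm interior_subset fun x hx => ?_
    exact Groth.Agent.S1327.result h e he (h x) inferInstance hx
  have hclosed : IsClosed (MoreMor.sectionComponents h e) := Stein5Sect.isClosed_sectionComponents h e he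
  let U : (pullback γ γ).Opens := ⟨_, hopen⟩
  have heU : ∀ y, e y ∈ U := fun y => SecComp5.section_mem h e he y
  let eU : Y.left ⟶ (U : Scheme.{u}) := IsOpenImmersion.lift U.ι e (by
    rintro _ ⟨y, rfl⟩; rw [Scheme.Opens.range_ι]; exact heU y)
  have heU' : eU ≫ U.ι = e := IsOpenImmersion.lift_fac _ _ _
  let q₀ : pullback γ γ ⟶ P := pullback.lift h (pullback.fst γ γ ≫ Y.hom)
    (by rw [Category.assoc]; exact pullback.condition.symm)
  have hq₀ : FEt.prop q₀ := by
    refine MorphismProperty.of_isPullback (P := FEt.prop) (f := pullback.snd γ f) (f' := pullback.fst γ γ) ?_ Y.prop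
    refine IsPullback.of_bot ?_ (pullback.lift_snd _ _ _).symm (IsPullback.of_hasPullback γ f).flip
    rw [pullback.lift_fst]
    exact IsPullback.of_hasPullback γ γ
  let Z : FEt.Cat P := MorphismProperty.Over.mk ⊤ (U.ι ≫ q₀)
    (MorphismProperty.comp_mem _ _ _ (Pi1X.prop_ι_of_isClopen U hclosed) hq₀)
  let φ : Z ⟶ UH.topObj P := MorphismProperty.Over.homMk (U.ι ≫ q₀) (Category.comp_id _)
  -- connected geometric fibres
  let hU : (U : Scheme.{u}) ⟶ Y.left := U.ι ≫ h
  have heUh : eU ≫ hU = 𝟙 _ := by rw [← Category.assoc, heU', he]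
  haveI hgU : GeometricallyConnected hU := by
    refine H23.GeomConn.of_section hU eU heUh fun y => ?_
    let j := hU.fiberι y
    let k := (j ≫ U.ι : hU.fiber y ⟶ pullback γ γ)
    have hr : Set.range k.base = connectedComponentIn (h ⁻¹' {y}) (e y) := by
      rw [Scheme.Hom.comp_base, TopCat.coe_comp, Set.range_comp, Scheme.Hom.range_fiberι]
      ext z
      constructor
      · rintro ⟨w, hw, rfl⟩
        have h1 : U.ι w ∈ connectedComponentIn (h ⁻¹' {h (U.ι w)}) (e (h (U.ι w))) := w.2
        have h2 : h (U.ι w) = y := hw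
        rwa [h2] at h1
      · intro hz
        have h2 : h z = y := connectedComponentIn_subset (h ⁻¹' {y}) (e y) hz
        have hzU : z ∈ U := by
          show z ∈ connectedComponentIn (h ⁻¹' {h z}) (e (h z))
          rwa [h2]
        exact ⟨⟨z, hzU⟩, h2, rfl⟩
    have hk : Topology.IsEmbedding k.base := k.isEmbedding
    haveI : ConnectedSpace (Set.range k.base) := by
      refine isConnected_iff_connectedSpace.1 ?_
      rw [hr]
      exact isConnected_connectedComponentIn_iff.2 (by
        show h (e y) = y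
        rw [← Scheme.Hom.comp_apply, he]; rfl)
    exact hk.toHomeomorph.symm.surjective.connectedSpace hk.toHomeomorph.symm.continuous
  -- a geometric point of the fibre with a section
  haveI := (hfib Ω s).1
  obtain ⟨w⟩ := (inferInstance : Nonempty ↥(pullback f s))
  obtain ⟨K, _, _, t, ht⟩ : ∃ (K : Type u) (_ : Field K) (_ : IsAlgClosed K)
      (t : Spec (CommRingCat.of K) ⟶ pullback f s), t (IsLocalRing.closedPoint K) = w :=
    ⟨AlgebraicClosure ((pullback f s).residueField w), inferInstance, inferInstance,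
      Spec.map (CommRingCat.ofHom (algebraMap ((pullback f s).residueField w) _)) ≫ (pullback f s).fromSpecResidueField w,
      Scheme.fromSpecResidueField_apply w _⟩
  let ybar : Spec (CommRingCat.of K) ⟶ Y.left := t ≫ σ
  let xbar : Spec (CommRingCat.of K) ⟶ X := t ≫ pullback.fst f s
  have hyx : ybar ≫ Y.hom = xbar := by rw [Category.assoc, hσ]
  let ξP : Spec (CommRingCat.of K) ⟶ P := pullback.lift ybar xbar (by rw [← Category.assoc, hyx])
  have key : ∀ z : Spec (CommRingCat.of K) ⟶ (U : Scheme.{u}), z ≫ U.ι ≫ q₀ = ξP →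
      z ≫ U.ι ≫ pullback.fst γ γ = ybar := by
    intro z hz
    have hz1 : z ≫ hU = ybar := by
      have := congrArg (· ≫ pullback.fst γ f) hz
      simp only [Category.assoc, q₀, pullback.lift_fst, ξP] at this
      exact this
    have hz2 : (z ≫ U.ι ≫ pullback.fst γ γ) ≫ Y.hom = xbar := by
      have := congrArg (· ≫ pullback.snd γ f) hz
      simp only [Category.assoc, q₀, pullback.lift_snd, ξP] at this
      simpa only [Category.assoc] using this
    let F := pullback hU ybar
    haveI : ConnectedSpace ↥F :=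
      GeometricallyConnected.geometrically_connectedSpace (f := hU) _ _ _ (IsPullback.of_hasPullback hU ybar)
    let sK : Spec (CommRingCat.of K) ⟶ S := ybar ≫ γ
    have hsK : sK = (t ≫ pullback.snd f s) ≫ s := by
      rw [Category.assoc, ← pullback.condition, ← Category.assoc t]
      exact (Category.assoc _ _ _).symm.trans (congrArg (· ≫ f) hyx)
    let G := pullback γ sK
    let XK := pullback f sK
    haveI : ConnectedSpace ↥XK := (hfib K sK).1
    let mXK : XK ⟶ pullback f s := pullback.lift (pullback.fst _ _) (pullback.snd _ _ ≫ t ≫ pullback.snd f s)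
      (pullback.condition.trans ((congrArg (pullback.snd f sK ≫ ·) hsK).trans (by simp only [Category.assoc])))
    let qG : G ⟶ XK := pullback.lift (pullback.fst _ _ ≫ Y.hom) (pullback.snd _ _)
      (by rw [Category.assoc]; exact pullback.condition)
    have HG : IsPullback (pullback.fst γ sK) qG Y.hom (pullback.fst f sK) := by
      refine IsPullback.of_bot ?_ (pullback.lift_fst _ _ _).symm (IsPullback.of_hasPullback f sK)
      rw [pullback.lift_snd]
      exact IsPullback.of_hasPullback γ sK
    haveI : IsFinite qG := MorphismProperty.of_isPullback (P := @IsFinite) HG ‹_›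
    haveI : Etale qG := MorphismProperty.of_isPullback (P := @Etale) HG ‹_›
    let σK : XK ⟶ G := pullback.lift (mXK ≫ σ) (pullback.snd _ _) (by
      rw [Category.assoc, ← Category.assoc σ, hσ, ← Category.assoc, pullback.lift_fst]
      exact pullback.condition)
    have hσK : σK ≫ qG = 𝟙 _ := by
      refine pullback.hom_ext ?_ ?_
      · simp only [Category.assoc, qG, σK, pullback.lift_fst, pullback.lift_fst_assoc, Category.id_comp, hσ, mXK]
      · simp only [Category.assoc, qG, σK, pullback.lift_snd, Category.id_comp]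
    have hσKp : FEt.prop σK := Pi1X.prop_of_comp σK qG ⟨inferInstance, inferInstance⟩ (by
      rw [hσK]; exact MorphismProperty.id_mem _ _)
    haveI : Etale σK := hσKp.2
    haveI : Mono σK := mono_of_mono_fac hσK
    haveI : IsOpenImmersion σK := IsOpenImmersion.of_flat_of_mono σK
    let M : F ⟶ G := pullback.lift (pullback.fst _ _ ≫ U.ι ≫ pullback.fst γ γ) (pullback.snd _ _) (by
      simp only [Category.assoc]
      rw [pullback.condition (f := γ) (g := γ)]
      refine Eq.trans ?_ ((congrArg (· ≫ γ) (pullback.condition (f := hU) (g := ybar))).trans (Category.assoc _ _ _))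
      simp only [hU, h, Category.assoc])
    let c₀ : Spec (CommRingCat.of K) ⟶ XK := pullback.lift xbar (𝟙 _) (by
      rw [Category.id_comp]
      exact (congrArg (· ≫ f) hyx.symm).trans (Category.assoc _ _ _))
    have hc₀ : c₀ ≫ mXK = t := by
      refine pullback.hom_ext ?_ ?_
      · simp only [Category.assoc, mXK, c₀, pullback.lift_fst]; rfl
      · simp only [Category.assoc, mXK, c₀, pullback.lift_snd, pullback.lift_snd_assoc, Category.id_comp]
    let b : Spec (CommRingCat.of K) ⟶ F := pullback.lift (ybar ≫ eU) (𝟙 _)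
      (by rw [Category.assoc, heUh, Category.comp_id, Category.id_comp])
    let a : Spec (CommRingCat.of K) ⟶ F := pullback.lift z (𝟙 _) (by rw [hz1, Category.id_comp])
    have hb : b ≫ M = c₀ ≫ σK := by
      refine pullback.hom_ext ?_ ?_
      · simp only [Category.assoc, M, b, σK, pullback.lift_fst, pullback.lift_fst_assoc]
        rw [reassoc_of% heU', pullback.lift_fst, Category.comp_id, reassoc_of% hc₀]
      · simp only [Category.assoc, M, b, σK, c₀, pullback.lift_snd]
    have hrange : Set.range M.base ⊆ Set.range σK.base := by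
      have hclo : IsClopen (M.base ⁻¹' Set.range σK.base) :=
        (Pi1X.isClopen_range hσKp).preimage M.continuous
      have hne : (M.base ⁻¹' Set.range σK.base).Nonempty :=
        ⟨b.base (IsLocalRing.closedPoint K), c₀.base (IsLocalRing.closedPoint K), by
          rw [← Scheme.Hom.comp_apply, ← Scheme.Hom.comp_apply, hb]⟩
      rintro _ ⟨x, rfl⟩
      exact (hclo.eq_univ hne).ge (Set.mem_univ x)
    let c : Spec (CommRingCat.of K) ⟶ XK := IsOpenImmersion.lift σK (a ≫ M) (by
      rintro _ ⟨x, rfl⟩; exact hrange ⟨_, (Scheme.Hom.comp_apply _ _ _).symm⟩)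
    have hc : c ≫ σK = a ≫ M := IsOpenImmersion.lift_fac _ _ _
    have hcc : c = c₀ := by
      have h1 := congrArg (· ≫ qG) hc
      simp only [Category.assoc, hσK, Category.comp_id] at h1
      rw [h1]
      refine pullback.hom_ext ?_ ?_
      · simp only [Category.assoc, qG, M, a, c₀, pullback.lift_fst, pullback.lift_fst_assoc]
        simpa only [Category.assoc] using hz2
      · simp only [Category.assoc, qG, M, a, c₀, pullback.lift_snd]
    have := congrArg (· ≫ pullback.fst γ sK) hc
    rw [hcc] at this
    simp only [Category.assoc, M, a, σK, pullback.lift_fst, pullback.lift_fst_assoc, reassoc_of% hc₀] at this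
    exact this.symm
  -- the components through the diagonal form a copy of the source
  haveI : IsOpenImmersion φ.left := Pi1X.isOpenImmersion_of_fiber_injective φ fun C hC hne =>
    ⟨K, inferInstance, inferInstance, ξP, hC.eq_univ hne ▸ Set.mem_univ _, fun z z' hzz => by
      have k1 := key z.1 z.2
      have k2 := key z'.1 z'.2
      refine Subtype.ext ((cancel_mono U.ι).1 (pullback.hom_ext ?_ ?_))
      · simpa only [Category.assoc] using k1.trans k2.symm
      · have e1 := congrArg (· ≫ pullback.fst γ f) (z.2.trans z'.2.symm)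
        simp only [Z, MorphismProperty.Over.mk_hom, Category.assoc, q₀, pullback.lift_fst] at e1
        simpa only [Category.assoc] using e1⟩
  haveI : PreconnectedSpace ↥(UH.topObj P).left := inferInstanceAs (PreconnectedSpace ↥P)
  haveI : Surjective φ.left := by
    refine ⟨Set.range_eq_univ.1 ((Pi1X.isClopen_range (Pi1X.prop_left φ)).eq_univ ?_)⟩
    obtain ⟨y⟩ := (inferInstance : Nonempty ↥Y.left)
    exact ⟨φ.left.base (eU y), _, rfl⟩
  haveI : IsIso φ.left := (isIso_iff_isOpenImmersion_and_surjective _).2 ⟨inferInstance, inferInstance⟩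
  haveI : IsIso (U.ι ≫ q₀) := ‹IsIso φ.left›
  refine ⟨inv (U.ι ≫ q₀) ≫ U.ι ≫ pullback.fst γ γ, ?_, ?_⟩
  · rw [Category.assoc, IsIso.inv_comp_eq, Category.assoc, Category.assoc]
    exact congrArg (U.ι ≫ ·) (pullback.lift_snd _ _ _).symm
  · have h1 : pullback.lift (𝟙 Y.left) Y.hom (Category.id_comp γ) = eU ≫ U.ι ≫ q₀ := by
      rw [reassoc_of% heU']
      refine pullback.hom_ext ?_ ?_
      · simp [q₀, h, e]
      · simp [q₀, e]
        exact (Category.id_comp _).symm
    show pullback.lift (𝟙 Y.left) Y.hom (Category.id_comp γ) ≫ _ = _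
    rw [h1, Category.assoc, IsIso.hom_inv_id_assoc, reassoc_of% heU', pullback.lift_fst]

include hfib in
/-- Every geometric fibre of such a cover is trivial. -/
theorem geomTrivial [ConnectedSpace Y.left] (Ω : Type u) [Field Ω] [IsAlgClosed Ω]
    (s : Spec (CommRingCat.of Ω) ⟶ S) (σ : pullback f s ⟶ Y.left) (hσ : σ ≫ Y.hom = pullback.fst f s)
    (K : Type u) [Field K] [IsAlgClosed K] (ξ : Spec (CommRingCat.of K) ⟶ S) :
    ∃ E : FEt.Cat (Spec (CommRingCat.of K)), Nonempty ((FEt.restrict (pullback.fst f ξ)).obj Y ≅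
      (FEt.restrict (pullback.snd f ξ)).obj E) := by
  classical
  obtain ⟨Θ, hΘ, hΘe⟩ := exists_spread f hfib Y Ω s σ hσ
  let Xξ := pullback f ξ
  let fξ : Xξ ⟶ Spec (CommRingCat.of K) := pullback.snd f ξ
  let Yξ := (FEt.restrict (pullback.fst f ξ)).obj Y
  haveI : ConnectedSpace ↥Xξ := (hfib K ξ).1
  let a : Yξ.left ⟶ Spec (CommRingCat.of K) := pullback.snd Y.hom (pullback.fst f ξ) ≫ fξ
  haveI : IsFinite (pullback.snd Y.hom (pullback.fst f ξ)) :=
    MorphismProperty.pullback_snd (P := @IsFinite) _ _ Y.prop.1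
  haveI : IsProper a := inferInstance
  haveI : JacobsonSpace ↥Yξ.left := LocallyOfFiniteType.jacobsonSpace a
  haveI : CompactSpace ↥Yξ.left := QuasiCompact.compactSpace_of_compactSpace a
  -- a section through each rational point
  let ybar : (Spec (CommRingCat.of K) ⟶ Yξ.left) → (Spec (CommRingCat.of K) ⟶ Y.left) :=
    fun p => p ≫ pullback.fst Y.hom (pullback.fst f ξ)
  have hy : ∀ p, p ≫ a = 𝟙 _ → ybar p ≫ g f Y = ξ := fun p hp => by
    simp only [ybar, Category.assoc, g]
    rw [← Category.assoc (pullback.fst Y.hom _), pullback.condition, Category.assoc, pullback.condition]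
    exact ((congrArg (· ≫ ξ) hp.symm).trans (by simp only [a, fξ, Category.assoc])).symm.trans (Category.id_comp ξ)
  let Θ' : ∀ p, p ≫ a = 𝟙 _ → (Xξ ⟶ Y.left) := fun p hp =>
    pullback.lift (fξ ≫ ybar p) (pullback.fst f ξ) (by
      rw [Category.assoc]
      exact (congrArg (fξ ≫ ·) (hy p hp)).trans pullback.condition.symm) ≫ Θ
  let sec : ∀ p, p ≫ a = 𝟙 _ → (UH.topObj Xξ ⟶ Yξ) := fun p hp =>
    MorphismProperty.Over.homMk (pullback.lift (Θ' p hp) (𝟙 _) (by
      rw [Category.assoc, hΘ, pullback.lift_snd, Category.id_comp])) (pullback.lift_snd _ _ _)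
  -- it passes through the point
  have hsec : ∀ p (hp : p ≫ a = 𝟙 _), p.base (IsLocalRing.closedPoint K) ∈ Set.range (sec p hp).left.base := by
    intro p hp
    refine ⟨(p ≫ pullback.snd Y.hom (pullback.fst f ξ)).base (IsLocalRing.closedPoint K), ?_⟩
    refine (Scheme.Hom.comp_apply _ _ _).symm.trans ?_
    refine congrArg (fun m : Spec (CommRingCat.of K) ⟶ Yξ.left => m.base (IsLocalRing.closedPoint K)) ?_
    show (p ≫ pullback.snd _ _) ≫ pullback.lift (Θ' p hp) (𝟙 _) _ = p
    refine pullback.hom_ext ?_ ?_
    · rw [Category.assoc, pullback.lift_fst]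
      have : (p ≫ pullback.snd Y.hom (pullback.fst f ξ)) ≫
          pullback.lift (fξ ≫ ybar p) (pullback.fst f ξ) (by
            rw [Category.assoc]
            exact (congrArg (fξ ≫ ·) (hy p hp)).trans pullback.condition.symm) =
          ybar p ≫ pullback.lift (𝟙 Y.left) Y.hom (Category.id_comp _) := by
        refine pullback.hom_ext ?_ ?_
        · simp only [Category.assoc, pullback.lift_fst, Category.comp_id]
          exact (congrArg (· ≫ ybar p) (show p ≫ pullback.snd Y.hom _ ≫ fξ = 𝟙 _ from hp)).trans
            (Category.id_comp _) |> (fun e => by simpa only [Category.assoc] using e)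
        · simp only [Category.assoc, pullback.lift_snd, ybar]
          exact congrArg (p ≫ ·) pullback.condition.symm
      show _ ≫ Θ' p hp = _
      simp only [Θ', ← Category.assoc]
      rw [this, Category.assoc, hΘe, Category.comp_id]
    · rw [Category.assoc, pullback.lift_snd, Category.comp_id]
  -- finitely many of them cover
  let T := {p : Spec (CommRingCat.of K) ⟶ Yξ.left // p ≫ a = 𝟙 _}
  let W : T → Set ↥Yξ.left := fun p => Set.range (sec p.1 p.2).left.base
  have hWc : ∀ p, IsClopen (W p) := fun p => Pi1X.isClopen_range (Pi1X.prop_left _)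
  have hcov : Set.univ ⊆ ⋃ p, W p := by
    by_contra hne
    rw [Set.univ_subset_iff] at hne
    obtain ⟨x, hx, hxc⟩ := nonempty_inter_closedPoints (Set.nonempty_compl.2 hne)
      ((isOpen_iUnion fun p => (hWc p).2).isClosed_compl.isLocallyClosed)
    refine hx (Set.mem_iUnion.2 ⟨⟨pointOfClosedPoint a x hxc, pointOfClosedPoint_comp _ _ _⟩, ?_⟩)
    have := hsec (pointOfClosedPoint a x hxc) (pointOfClosedPoint_comp _ _ _)
    rwa [pointOfClosedPoint_apply] at this
  obtain ⟨T₀, hT₀⟩ := isCompact_univ.elim_finite_subcover W (fun p => (hWc p).2) hcov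
  let ι := ↥T₀
  haveI : PreservesFiniteColimits (FEt.restrict fξ) := (Groth.Agent.S0285.result fξ).2
  haveI : PreservesColimit (Discrete.functor fun _ : ι => UH.topObj (Spec (CommRingCat.of K))) (FEt.restrict fξ) :=
    inferInstance
  let V : FEt.Cat (Spec (CommRingCat.of K)) := ∐ fun _ : ι => UH.topObj _
  let I := PreservesCoproduct.iso (FEt.restrict fξ) (fun _ : ι => UH.topObj (Spec (CommRingCat.of K))) ≪≫
    Limits.Sigma.mapIso (fun _ : ι => UH.restrictTop fξ)
  let e' : (∐ fun _ : ι => UH.topObj Xξ) ⟶ Yξ := Limits.Sigma.desc fun p : ι => sec p.1.1 p.1.2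
  let e : (FEt.restrict fξ).obj V ⟶ Yξ := I.hom ≫ e'
  haveI : Surjective e.left := by
    refine ⟨fun x => ?_⟩
    obtain ⟨p, hp, hx⟩ := Set.mem_iUnion₂.1 (hT₀ (Set.mem_univ x))
    obtain ⟨z, rfl⟩ := hx
    refine ⟨(Limits.Sigma.ι (fun _ : ι => UH.topObj Xξ) ⟨p, hp⟩ ≫ I.inv).left.base z, ?_⟩
    rw [← Scheme.Hom.comp_apply]
    refine congrArg (fun m => (m : (UH.topObj Xξ).left ⟶ Yξ.left).base z) ?_
    show ((Limits.Sigma.ι (fun _ : ι => UH.topObj Xξ) ⟨p, hp⟩ ≫ I.inv) ≫ I.hom ≫ e').left = _
    refine congrArg (fun m : UH.topObj Xξ ⟶ Yξ => m.left) ?_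
    rw [Category.assoc, I.inv_hom_id_assoc]
    exact Limits.Sigma.ι_desc _ _
  haveI : GeometricallyConnected fξ :=
    MorphismProperty.pullback_snd (P := @GeometricallyConnected) f ξ
      (Pi1X.geometricallyConnected_of_isAlgClosed f fun Ω' _ _ t => (hfib Ω' t).1)
  haveI : UniversallyOpen fξ := inferInstance
  obtain ⟨E, ⟨i⟩⟩ := Pi1Ext.exists_iso_of_surjective fξ
    (fun W' C hC => Pi1Ext.exists_clopen_preimage fξ W' C hC) V e
  exact ⟨E, ⟨i.symm⟩⟩

include hfib in
/-- A connected cover with a section over a geometric fibre comes from the base. -/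
theorem mem_essImage_of_section [ConnectedSpace Y.left] (Ω : Type u) [Field Ω] [IsAlgClosed Ω]
    (s : Spec (CommRingCat.of Ω) ⟶ S) (σ : pullback f s ⟶ Y.left) (hσ : σ ≫ Y.hom = pullback.fst f s) :
    (FEt.restrict f).essImage Y :=
  mem_essImage_of_geomTrivial f (fun K _ _ ξ => (hfib K ξ).1) Y fun K _ _ ξ =>
    geomTrivial f hfib Y Ω s σ hσ K ξ

end Groth.Agent.Pi1Ext.GDesc.Sect
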