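import Groth.Agent.Pi1Ext.FAlg.General
import Groth.Agent.EtFound.ProperHenselConn
import Groth.Agent.Pi1X.FEtBasic
import Groth.Agent.S0268
import Groth.Agent.S0269
import Groth.Agent.S5117
import Groth.Agent.S0239

/-!
# Covers of proper schemes over henselian local rings seen through the geometric closed fibre
-/

set_option linter.style.haveILetI false
set_option backward.isDefEq.respectTransparency false
set_option backward.isDefEq.respectTransparency.types false

universe u

open CategoryTheory CategoryTheory.Limits AlgebraicGeometry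

noncomputable section

namespace Groth.Agent.Pi1Ext.GDesc.Closed

open Groth.Agent FAlg IsLocalRing

variable {A : Type u} [CommRing A] [HenselianLocalRing A] {X : Scheme.{u}} (f : X ⟶ Spec (CommRingCat.of A))

/-- The closed point. -/
abbrev m : Spec (CommRingCat.of (ResidueField A)) ⟶ Spec (CommRingCat.of A) :=
  Spec.map (CommRingCat.ofHom (residue A))

/-- The geometric closed point, seen in the residue field. -/
abbrev bk : Spec (CommRingCat.of (AlgebraicClosure (ResidueField A))) ⟶ Spec (CommRingCat.of (ResidueField A)) :=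
  Spec.map (CommRingCat.ofHom (algebraMap (ResidueField A) (AlgebraicClosure (ResidueField A))))

variable (ξ : Spec (CommRingCat.of (AlgebraicClosure (ResidueField A))) ⟶ Spec (CommRingCat.of A))
  (hξ : ξ = Spec.map (CommRingCat.ofHom ((algebraMap (ResidueField A)
    (AlgebraicClosure (ResidueField A))).comp (residue A))))

include hξ in
/-- The geometric closed fibre through the closed fibre. -/
theorem isPullback_geom :
    IsPullback (pullback.fst (pullback.snd f m) bk ≫ pullback.fst f m) (pullback.snd (pullback.snd f m) bk) f ξ := by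
  have := (IsPullback.of_hasPullback (pullback.snd f m) bk).paste_horiz (IsPullback.of_hasPullback f (m (A := A)))
  rwa [← Spec.map_comp, ← CommRingCat.ofHom_comp, ← hξ] at this

include hξ in
/-- The geometric closed fibre is connected. -/
theorem connected_geom [ConnectedSpace ↥(pullback f ξ)] :
    ConnectedSpace ↥(pullback (pullback.snd f m) (bk (A := A))) :=
  (Scheme.homeoOfIso (isPullback_geom f ξ hξ).isoPullback).symm.surjective.connectedSpace
    (Scheme.homeoOfIso (isPullback_geom f ξ hξ).isoPullback).symm.continuous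

variable [IsProper f]

instance isEquivalence_closedFibre : (FEt.restrict (pullback.fst f (m (A := A)))).IsEquivalence :=
  isEquivalence_proper (maximalIdeal A) f

instance isEquivalence_closedPoint : (FEt.restrict (m (A := A))).IsEquivalence :=
  Groth.Agent.S0239.result A (maximalIdeal A)

include hξ in
/-- Restriction from the base is fully faithful. -/
theorem fullyFaithful [ConnectedSpace ↥(pullback f ξ)] :
    (FEt.restrict f).Full ∧ (FEt.restrict f).Faithful := by
  let i0 := pullback.fst f (m (A := A))
  let f0 := pullback.snd f (m (A := A))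
  haveI : CompactSpace ↥(pullback f (m (A := A))) := QuasiCompact.compactSpace_of_compactSpace f0
  haveI : QuasiSeparatedSpace ↥(pullback f (m (A := A))) := quasiSeparatedSpace_of_quasiSeparated f0
  haveI := connected_geom f ξ hξ
  obtain ⟨h1, h2⟩ := Groth.Agent.S0268.result (ResidueField A) f0
  let e : FEt.restrict f ⋙ FEt.restrict i0 ≅ FEt.restrict (m (A := A)) ⋙ FEt.restrict f0 :=
    (MorphismProperty.Over.pullbackComp (P := FEt.prop) (Q := ⊤) i0 f).symm ≪≫
      eqToIso (congrArg (fun k => FEt.restrict k) pullback.condition) ≪≫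
      MorphismProperty.Over.pullbackComp (P := FEt.prop) (Q := ⊤) f0 (m (A := A))
  haveI := h1
  haveI := h2
  haveI : (FEt.restrict f ⋙ FEt.restrict i0).Full := Functor.Full.of_iso e.symm
  haveI : (FEt.restrict f ⋙ FEt.restrict i0).Faithful := Functor.Faithful.of_iso e.symm
  exact ⟨Functor.Full.of_comp_faithful (FEt.restrict f) (FEt.restrict i0),
    Functor.Faithful.of_comp (FEt.restrict f) (FEt.restrict i0)⟩

omit [IsProper f] in
/-- Restriction preserves properties of morphisms of covers that are stable under base change. -/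
theorem prop_map_left {S T : Scheme.{u}} (g : S ⟶ T) (P : MorphismProperty Scheme.{u}) [P.IsStableUnderBaseChange]
    {V W : FEt.Cat T} (φ : V ⟶ W) (h : P φ.left) : P ((FEt.restrict g).map φ).left := by
  have e : φ.left ≫ W.hom = V.hom := MorphismProperty.Over.w φ
  have e1 : ((FEt.restrict g).map φ).left ≫ pullback.snd W.hom g = pullback.snd V.hom g :=
    MorphismProperty.Over.w ((FEt.restrict g).map φ)
  refine MorphismProperty.of_isPullback (P := P) ?_ h
    (f := pullback.fst W.hom g) (f' := pullback.fst V.hom g)
  refine IsPullback.of_bot ?_ (pullback.lift_fst _ _ _).symm (IsPullback.of_hasPullback W.hom g)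
  rw [e]
  exact (congrArg (fun k => IsPullback (pullback.fst V.hom g) k V.hom g) e1).mpr (IsPullback.of_hasPullback V.hom g)

include hξ in
/-- Covers of the geometric closed fibre are open and closed in restrictions. -/
theorem exists_openClosed [ConnectedSpace ↥(pullback f ξ)] (V : FEt.Cat (pullback f ξ)) :
    ∃ (U : FEt.Cat X) (ι : V ⟶ (FEt.restrict (pullback.fst f ξ)).obj U),
      IsOpenImmersion ι.left ∧ IsClosedImmersion ι.left := by
  let i0 := pullback.fst f (m (A := A))
  let f0 := pullback.snd f (m (A := A))
  haveI : CompactSpace ↥(pullback f (m (A := A))) := QuasiCompact.compactSpace_of_compactSpace f0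
  haveI : QuasiSeparatedSpace ↥(pullback f (m (A := A))) := quasiSeparatedSpace_of_quasiSeparated f0
  haveI := connected_geom f ξ hξ
  let θ := (isPullback_geom f ξ hξ).isoPullback
  obtain ⟨U0, ι0, h1, h2⟩ := Groth.Agent.S0269.result (ResidueField A) f0 ((FEt.restrict θ.hom).obj V)
  let U := (FEt.restrict i0).objPreimage U0
  have hθ : θ.inv ≫ pullback.fst f0 (bk (A := A)) ≫ i0 = pullback.fst f ξ :=
    (isPullback_geom f ξ hξ).isoPullback_inv_fst
  let e1 : V ≅ (FEt.restrict θ.inv).obj ((FEt.restrict θ.hom).obj V) :=
    (restrictIdIso V).symm ≪≫ congrIso θ.inv_hom_id.symm V ≪≫ (compIso θ.inv θ.hom V).symm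
  let e2 : (FEt.restrict θ.inv).obj ((FEt.restrict (pullback.fst f0 (bk (A := A)))).obj U0) ≅
      (FEt.restrict (pullback.fst f ξ)).obj U :=
    compIso _ _ U0 ≪≫ (FEt.restrict _).mapIso ((FEt.restrict i0).objObjPreimageIso U0).symm ≪≫
      compIso _ i0 U ≪≫ congrIso ((Category.assoc _ _ _).trans hθ) U
  haveI : IsIso e1.hom.left := ⟨e1.inv.left, congrArg (fun k => k.left) e1.hom_inv_id, congrArg (fun k => k.left) e1.inv_hom_id⟩
  haveI : IsIso e2.hom.left := ⟨e2.inv.left, congrArg (fun k => k.left) e2.hom_inv_id, congrArg (fun k => k.left) e2.inv_hom_id⟩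
  haveI := prop_map_left θ.inv @IsOpenImmersion ι0 h1
  haveI := prop_map_left θ.inv @IsClosedImmersion ι0 h2
  refine ⟨U, e1.hom ≫ (FEt.restrict θ.inv).map ι0 ≫ e2.hom, ?_, ?_⟩
  · exact inferInstanceAs (IsOpenImmersion (e1.hom.left ≫ ((FEt.restrict θ.inv).map ι0).left ≫ e2.hom.left))
  · exact inferInstanceAs (IsClosedImmersion (e1.hom.left ≫ ((FEt.restrict θ.inv).map ι0).left ≫ e2.hom.left))

include hξ in
/-- A connected cover with a section over the geometric closed fibre comes from the base. -/
theorem exists_iso_of_section [ConnectedSpace ↥(pullback f ξ)] (X' : FEt.Cat X) [ConnectedSpace X'.left]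
    (σ : pullback f ξ ⟶ X'.left) (hσ : σ ≫ X'.hom = pullback.fst f ξ) :
    ∃ T : FEt.Cat (Spec (CommRingCat.of A)), Nonempty ((FEt.restrict f).obj T ≅ X') := by
  let i0 := pullback.fst f (m (A := A))
  let f0 := pullback.snd f (m (A := A))
  haveI : CompactSpace ↥(pullback f (m (A := A))) := QuasiCompact.compactSpace_of_compactSpace f0
  haveI : QuasiSeparatedSpace ↥(pullback f (m (A := A))) := quasiSeparatedSpace_of_quasiSeparated f0
  haveI := connected_geom f ξ hξ
  let θ := (isPullback_geom f ξ hξ).isoPullback
  let X0 : FEt.Cat (pullback f (m (A := A))) := (FEt.restrict i0).obj X'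
  haveI : IsFinite X'.hom := X'.prop.1
  let g : X'.left ⟶ X := X'.hom
  haveI : IsProper (g ≫ f) := inferInstance
  haveI hc : ConnectedSpace X0.left := by
    haveI := (ProperHenselConn.connectedSpace_iff (maximalIdeal A) (g ≫ f)).1 ‹_›
    haveI : IsClosedImmersion i0 := by
      haveI : IsClosedImmersion (m (A := A)) := IsClosedImmersion.spec_of_surjective _ residue_surjective
      exact MorphismProperty.pullback_fst _ _ inferInstance
    let j := pullback.fst g i0
    haveI : IsClosedImmersion j := MorphismProperty.pullback_fst _ _ inferInstance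
    have hr : Set.range j.base = (g ≫ f) ⁻¹' PrimeSpectrum.zeroLocus (maximalIdeal A : Set A) := by
      rw [Scheme.Pullback.range_fst]
      exact congrArg (g.base ⁻¹' ·) (ProperHenselConn.range_fst (maximalIdeal A) f)
    let h := j.isEmbedding.toHomeomorph.trans (Homeomorph.setCongr hr)
    exact h.symm.surjective.connectedSpace h.symm.continuous
  have hθ : θ.hom ≫ pullback.fst f ξ = pullback.fst f0 (bk (A := A)) ≫ i0 :=
    (isPullback_geom f ξ hξ).isoPullback_hom_fst
  obtain ⟨S', ⟨e⟩⟩ := Groth.Agent.S5117.result (ResidueField A) f0 X0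
    (pullback.lift (θ.hom ≫ σ) (pullback.fst _ _) (by rw [Category.assoc, hσ, hθ]))
    (pullback.lift_snd _ _ _)
  let T := (FEt.restrict (m (A := A))).objPreimage S'
  refine ⟨T, ⟨(FEt.restrict i0).preimageIso ?_⟩⟩
  exact compIso i0 f T ≪≫ congrIso pullback.condition T ≪≫ (compIso f0 (m (A := A)) T).symm ≪≫
    (FEt.restrict f0).mapIso ((FEt.restrict (m (A := A))).objObjPreimageIso S') ≪≫ e

end Groth.Agent.Pi1Ext.GDesc.Closed
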