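import Groth.Agent.Pi1X.FEtBasic
import Mathlib.AlgebraicGeometry.Restrict
import Mathlib.AlgebraicGeometry.Gluing
import Mathlib.AlgebraicGeometry.Limits

/-!
# Gluing morphisms of covers along a disjoint open cover
-/

set_option linter.style.haveILetI false
set_option backward.isDefEq.respectTransparency false
set_option backward.isDefEq.respectTransparency.types false

universe u

open CategoryTheory CategoryTheory.Limits AlgebraicGeometry TopologicalSpace

noncomputable section

namespace Groth.Agent.Pi1Ext.GDesc.Glue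

open Groth.Agent

variable {X : Scheme.{u}} {I : Type u} (U : I → X.Opens) (hU : IsOpenCover U)

include hU in
/-- A morphism of covers is determined by its restrictions. -/
theorem hom_ext {A B : FEt.Cat X} {φ ψ : A ⟶ B}
    (h : ∀ i, (FEt.restrict (U i).ι).map φ = (FEt.restrict (U i).ι).map ψ) : φ = ψ := by
  refine MorphismProperty.Over.Hom.ext (Scheme.Cover.hom_ext ((X.openCoverOfIsOpenCover U hU).pullback₁ A.hom) _ _
    fun i => ?_)
  have h1 : ∀ η : A ⟶ B, ((FEt.restrict (U i).ι).map η).left ≫ pullback.fst B.hom (U i).ι =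
      pullback.fst A.hom (U i).ι ≫ η.left := fun η => pullback.lift_fst _ _ _
  exact (h1 φ).symm.trans ((congrArg (fun η => η.left ≫ pullback.fst B.hom (U i).ι) (h i)).trans (h1 ψ))

variable (hdis : ∀ i j, i ≠ j → (U i : Set X) ∩ U j = ∅)

include hU hdis in
/-- Morphisms on the members of a disjoint open cover glue. -/
theorem exists_hom {A B : FEt.Cat X} (e : ∀ i, (FEt.restrict (U i).ι).obj A ⟶ (FEt.restrict (U i).ι).obj B) :
    ∃ φ : A ⟶ B, ∀ i, (FEt.restrict (U i).ι).map φ = e i := by
  let 𝒰 := (X.openCoverOfIsOpenCover U hU).pullback₁ A.hom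
  let g : ∀ i, 𝒰.X i ⟶ B.left := fun i => (e i).left ≫ pullback.fst B.hom (U i).ι
  have hg : ∀ i j, pullback.fst (𝒰.f i) (𝒰.f j) ≫ g i = pullback.snd _ _ ≫ g j := by
    intro i j
    by_cases hij : i = j
    · subst hij
      haveI : Mono (𝒰.f i) := by
        show Mono (pullback.fst A.hom (U i).ι)
        infer_instance
      rw [(cancel_mono (𝒰.f i)).1 (pullback.condition (f := 𝒰.f i) (g := 𝒰.f i))]
    · haveI : IsEmpty ↥(pullback (𝒰.f i) (𝒰.f j)) := ⟨fun z => by
        have key : ∀ (l : I) (q : ↥(pullback A.hom (U l).ι)),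
            A.hom.base ((pullback.fst A.hom (U l).ι).base q) ∈ U l := fun l q => by
          rw [← Scheme.Hom.comp_apply, pullback.condition, Scheme.Hom.comp_apply]
          exact ((pullback.snd A.hom (U l).ι).base q).2
        have h1 := key i ((pullback.fst (𝒰.f i) (𝒰.f j)).base z)
        have h2 := key j ((pullback.snd (𝒰.f i) (𝒰.f j)).base z)
        have h3 : (pullback.fst (𝒰.f i) (𝒰.f j) ≫ 𝒰.f i).base z = (pullback.snd (𝒰.f i) (𝒰.f j) ≫ 𝒰.f j).base z := by
          rw [pullback.condition]
        simp only [Scheme.Hom.comp_apply] at h3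
        exact (hdis i j hij).le ⟨h1, by
          show A.hom.base ((𝒰.f i).base ((pullback.fst (𝒰.f i) (𝒰.f j)).base z)) ∈ U j
          rw [h3]; exact h2⟩⟩
      exact isInitialOfIsEmpty.hom_ext _ _
  have hfac : ∀ i, 𝒰.f i ≫ Scheme.Cover.glueMorphisms 𝒰 g hg = g i := Scheme.Cover.ι_glueMorphisms 𝒰 g hg
  refine ⟨MorphismProperty.Over.homMk (Scheme.Cover.glueMorphisms 𝒰 g hg)
    (Scheme.Cover.hom_ext 𝒰 _ _ fun i => ?_), fun i => MorphismProperty.Over.Hom.ext (pullback.hom_ext ?_ ?_)⟩
  · rw [← Category.assoc, hfac]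
    calc g i ≫ B.hom = ((e i).left ≫ pullback.snd B.hom (U i).ι) ≫ (U i).ι := by
          simp only [g, Category.assoc]
          exact congrArg ((e i).left ≫ ·) pullback.condition
      _ = pullback.snd A.hom (U i).ι ≫ (U i).ι :=
          congrArg (· ≫ (U i).ι) (MorphismProperty.Over.w (e i))
      _ = _ := pullback.condition.symm
  · exact (pullback.lift_fst _ _ _).trans (hfac i)
  · exact (pullback.lift_snd _ _ _).trans (MorphismProperty.Over.w (e i)).symm

include hU hdis in
/-- Isomorphisms on the members of a disjoint open cover glue. -/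
theorem nonempty_iso {A B : FEt.Cat X}
    (h : ∀ i, Nonempty ((FEt.restrict (U i).ι).obj A ≅ (FEt.restrict (U i).ι).obj B)) : Nonempty (A ≅ B) := by
  let e := fun i => (h i).some
  obtain ⟨φ, hφ⟩ := exists_hom U hU hdis fun i => (e i).hom
  obtain ⟨ψ, hψ⟩ := exists_hom U hU hdis fun i => (e i).inv
  exact ⟨⟨φ, ψ, hom_ext U hU fun i => by rw [Functor.map_comp, CategoryTheory.Functor.map_id, hφ, hψ, Iso.hom_inv_id],
    hom_ext U hU fun i => by rw [Functor.map_comp, CategoryTheory.Functor.map_id, hφ, hψ, Iso.inv_hom_id]⟩⟩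

/-- Covers isomorphic on every connected component are isomorphic. -/
theorem nonempty_iso_of_components [LocallyConnectedSpace X] {A B : FEt.Cat X}
    (h : ∀ U : X.Opens, IsClosed (U : Set X) → _root_.IsConnected (U : Set X) →
      Nonempty ((FEt.restrict U.ι).obj A ≅ (FEt.restrict U.ι).obj B)) : Nonempty (A ≅ B) := by
  let c : ConnectedComponents X → X.Opens := fun i =>
    ⟨ConnectedComponents.mk ⁻¹' {i}, by
      obtain ⟨x, rfl⟩ := ConnectedComponents.surjective_coe i
      rw [connectedComponents_preimage_singleton]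
      exact isOpen_connectedComponent⟩
  refine nonempty_iso c ?_ (fun i j hij => ?_) fun i => h (c i) ?_ ?_
  · exact Opens.ext (by
      rw [Opens.coe_iSup]
      exact Set.eq_univ_of_forall fun x => Set.mem_iUnion.2 ⟨ConnectedComponents.mk x, rfl⟩)
  · ext x
    simp only [c, Opens.coe_mk, Set.mem_inter_iff, Set.mem_preimage, Set.mem_singleton_iff, Set.mem_empty_iff_false,
      iff_false, not_and]
    rintro rfl h2
    exact hij h2
  · obtain ⟨x, rfl⟩ := ConnectedComponents.surjective_coe i
    show IsClosed (ConnectedComponents.mk ⁻¹' {ConnectedComponents.mk x})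
    rw [connectedComponents_preimage_singleton]
    exact isClosed_connectedComponent
  · obtain ⟨x, rfl⟩ := ConnectedComponents.surjective_coe i
    show _root_.IsConnected (ConnectedComponents.mk ⁻¹' {ConnectedComponents.mk x})
    rw [connectedComponents_preimage_singleton]
    exact isConnected_connectedComponent

end Groth.Agent.Pi1Ext.GDesc.Glue
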