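import Groth.Agent.Pi1Ext.GDesc.Dom
import Groth.Agent.Pi1Ext.GDesc.Glue

/-!
# Covers of a product restricted to the rational points of a factor
-/

set_option linter.style.haveILetI false
set_option backward.isDefEq.respectTransparency false
set_option backward.isDefEq.respectTransparency.types false

universe u

open CategoryTheory CategoryTheory.Limits AlgebraicGeometry TopologicalSpace

noncomputable section

namespace Groth.Agent.Pi1Ext.GDesc.Const

open Groth.Agent FAlg Pi1X

variable {k : Type u} [Field k] [IsAlgClosed k] {X T : Scheme.{u}} (pX : X ⟶ Spec (CommRingCat.of k))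
  (pT : T ⟶ Spec (CommRingCat.of k)) [IsProper pX] [ConnectedSpace X] [ConnectedSpace T] [IsLocallyNoetherian T]

/-- Finitely many products of covers dominate a cover of a product. -/
theorem exists_family (W : FEt.Cat (pullback pX pT)) :
    ∃ (ι : Type u) (_ : Finite ι) (X' : ι → FEt.Cat X) (T' : ι → FEt.Cat T)
      (φ : ∀ i, pullback ((X' i).hom ≫ pX) ((T' i).hom ≫ pT) ⟶ W.left),
      (∀ i, φ i ≫ W.hom = Prod.prodMap pX pT (X' i) (T' i)) ∧ ∀ z : W.left, ∃ i, z ∈ Set.range (φ i).base := by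
  classical
  let w₁ : W.left ⟶ pullback pX pT := W.hom
  haveI : IsFinite w₁ := W.prop.1
  haveI : Etale w₁ := W.prop.2
  let sn := pullback.snd pX pT
  haveI : IsProper sn := MorphismProperty.pullback_snd _ _ inferInstance
  haveI : UniversallyOpen sn := MorphismProperty.pullback_snd pX pT inferInstance
  haveI : IsLocallyNoetherian W.left := LocallyOfFiniteType.isLocallyNoetherian (w₁ ≫ sn)
  haveI := SecComp5.locallyConnectedSpace W.left
  obtain ⟨t₀⟩ := (inferInstance : Nonempty T)
  let π : W.left ⟶ T := w₁ ≫ sn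
  haveI : IsProper π := inferInstance
  let F : Set ↥W.left := π.base ⁻¹' closure {t₀}
  -- every component lies over the whole parameter space
  have hmeet : ∀ z : W.left, ∃ w, π.base w = t₀ ∧ connectedComponent z = connectedComponent w := fun z => by
    have himg : IsClopen (π.base '' connectedComponent z) := by
      have h1 : π.base '' connectedComponent z = sn.base '' (w₁.base '' connectedComponent z) := by
        rw [Set.image_image]; rfl
      rw [h1]
      exact ⟨sn.isClosedMap _ (w₁.isClosedMap _ isClosed_connectedComponent),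
        sn.isOpenMap _ (w₁.isOpenMap _ isOpen_connectedComponent)⟩
    obtain ⟨w, hw, hwt⟩ := (himg.eq_univ ⟨_, z, mem_connectedComponent, rfl⟩).ge (Set.mem_univ t₀)
    exact ⟨w, hwt, connectedComponent_eq hw⟩
  have hdom : ∀ z : W.left, ∃ (X' : FEt.Cat X) (T' : FEt.Cat T)
      (φ : pullback (X'.hom ≫ pX) (T'.hom ≫ pT) ⟶ W.left),
      φ ≫ W.hom = Prod.prodMap pX pT X' T' ∧ connectedComponent z ⊆ Set.range φ.base := fun z => by
    let C : W.left.Opens := ⟨connectedComponent z, isOpen_connectedComponent⟩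
    let Wc : FEt.Cat (pullback pX pT) := MorphismProperty.Over.mk ⊤ (C.ι ≫ W.hom)
      (MorphismProperty.comp_mem _ _ _ (prop_ι_of_isClopen C isClosed_connectedComponent) W.prop)
    haveI : ConnectedSpace ↥Wc.left := isConnected_iff_connectedSpace.1 isConnected_connectedComponent
    obtain ⟨X', T', φ, hφ, hs⟩ := Dom.exists_product_cover pX pT Wc
    refine ⟨X', T', φ ≫ C.ι, (Category.assoc _ _ _).trans hφ, fun y hy => ?_⟩
    obtain ⟨p, hp⟩ := hs.surj ⟨y, hy⟩
    refine ⟨p, ?_⟩
    rw [Scheme.Hom.comp_apply, hp]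
    rfl
  choose X' T' φ hφ hC using hdom
  have hc : IsCompact (π.base ⁻¹' {t₀}) := π.isProperMap.isCompact_preimage isCompact_singleton
  obtain ⟨S, hS⟩ := hc.elim_finite_subcover (fun z : W.left => connectedComponent z)
    (fun z => isOpen_connectedComponent) (fun w _ => Set.mem_iUnion.2 ⟨w, mem_connectedComponent⟩)
  refine ⟨↥S, inferInstance, fun s => X' s.1, fun s => T' s.1, fun s => φ s.1, fun s => hφ s.1, fun z => ?_⟩
  obtain ⟨w, hw, hzw⟩ := hmeet z
  obtain ⟨s, hs, hws⟩ := Set.mem_iUnion₂.1 (hS hw)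
  exact ⟨⟨s, hs⟩, hC s (by rw [connectedComponent_eq hws, ← hzw]; exact mem_connectedComponent)⟩

omit [IsAlgClosed k] [IsProper pX] [ConnectedSpace T] [IsLocallyNoetherian T] in
/-- Over a cover evaluating surjectively the graphs cover the fibre product. -/
theorem exists_graph {Ω : Type u} [Field Ω] (ξ : Spec (CommRingCat.of Ω) ⟶ X) (B : FEt.Cat X)
    [ConnectedSpace B.left] (b : FEt.fiberObj ξ B) (X₁ : FEt.Cat X) [Finite (B ⟶ X₁)] [IsSepClosed Ω]
    (hev : ∀ a : FEt.fiberObj ξ X₁, ∃ f : B ⟶ X₁, b.1 ≫ f.left = a.1)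
    (z : ↥(pullback X₁.hom B.hom)) :
    ∃ f : B ⟶ X₁, z ∈ Set.range (pullback.lift (f := X₁.hom) (g := B.hom) f.left (𝟙 _)
      ((MorphismProperty.Over.w f).trans (Category.id_comp _).symm)).base := by
  let g : ∀ f : B ⟶ X₁, B.left ⟶ pullback X₁.hom B.hom := fun f =>
    pullback.lift f.left (𝟙 _) ((MorphismProperty.Over.w f).trans (Category.id_comp _).symm)
  let sn := pullback.snd X₁.hom B.hom
  have hsn : FEt.prop sn := MorphismProperty.pullback_snd _ _ X₁.prop
  haveI := hsn.1
  haveI := hsn.2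
  have hg : ∀ f, IsClopen (Set.range (g f).base) := fun f => isClopen_range
    (prop_of_comp (g f) sn hsn (by
      rw [show g f ≫ sn = 𝟙 _ from pullback.lift_snd _ _ _]
      exact MorphismProperty.id_mem _ _))
  by_contra hz
  let R := (⋃ f, Set.range (g f).base)ᶜ
  have hR : IsClopen R := (isClopen_iUnion_of_finite hg).compl
  have hzR : z ∈ R := fun h => hz (by obtain ⟨f, hf⟩ := Set.mem_iUnion.1 h; exact ⟨f, hf⟩)
  haveI : PreconnectedSpace ↥((𝟭 Scheme.{u}).obj B.left) :=
    (inferInstance : ConnectedSpace ↥B.left).toPreconnectedSpace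
  obtain ⟨y, hy, hyb⟩ := (IsClopen.eq_univ ⟨sn.isClosedMap _ hR.1, sn.isOpenMap _ hR.2⟩
    ⟨_, z, hzR, rfl⟩).ge (Set.mem_univ (b.1.base (IsLocalRing.closedPoint Ω)))
  obtain ⟨⟨s, hs⟩, hsy⟩ := exists_lift_at b.1 sn y hyb
  obtain ⟨f, hf⟩ := hev ⟨s ≫ pullback.fst _ _, by
    rw [Category.assoc, pullback.condition, ← Category.assoc, hs]; exact b.2⟩
  refine hy (Set.mem_iUnion.2 ⟨f, b.1.base (IsLocalRing.closedPoint Ω), ?_⟩)
  have hsg : b.1 ≫ g f = s := by
    refine pullback.hom_ext ?_ ?_
    · rw [Category.assoc, pullback.lift_fst, hf]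
    · rw [Category.assoc, pullback.lift_snd, Category.comp_id, hs]
  rw [← hsy]
  exact (Scheme.Hom.comp_apply _ _ _).symm.trans
    (congrArg (fun l : Spec (CommRingCat.of Ω) ⟶ pullback X₁.hom B.hom => l.base (IsLocalRing.closedPoint Ω)) hsg)

/-- After a connected finite étale base change of the proper factor a cover of the product comes from the other
factor. -/
theorem exists_trivialization_right (W : FEt.Cat (pullback pX pT)) :
    ∃ (B : FEt.Cat X) (_ : ConnectedSpace ↥B.left) (U : FEt.Cat T),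
      Nonempty ((FEt.restrict (pullback.snd (B.hom ≫ pX) pT)).obj U ≅
        (FEt.restrict (pullback.map (B.hom ≫ pX) pT pX pT B.hom (𝟙 _) (𝟙 _) (by simp) (by simp))).obj W) := by
  classical
  obtain ⟨ι, _, X', T', φ, hφ, hcov⟩ := exists_family pX pT W
  haveI : IsLocallyNoetherian X := LocallyOfFiniteType.isLocallyNoetherian pX
  haveI : JacobsonSpace ↥X := LocallyOfFiniteType.jacobsonSpace pX
  obtain ⟨x₀, -, hx₀⟩ := nonempty_inter_closedPoints (Z := (Set.univ : Set X)) Set.univ_nonempty
    isClosed_univ.isLocallyClosed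
  let x : Spec (CommRingCat.of k) ⟶ X := pointOfClosedPoint pX x₀ hx₀
  obtain ⟨B, b, ⟨hBc, hB⟩, hev⟩ := Prod.exists_evaluation x X'
  haveI := hB
  let aB : B.left ⟶ X := B.hom
  haveI : IsFinite aB := B.prop.1
  let qB : B.left ⟶ Spec (CommRingCat.of k) := aB ≫ pX
  let fB : pullback qB pT ⟶ T := pullback.snd qB pT
  let mB := pullback.map qB pT pX pT aB (𝟙 _) (𝟙 _) (by simp [qB]) (by simp)
  have hmB1 : mB ≫ pullback.fst pX pT = pullback.fst qB pT ≫ aB := pullback.lift_fst _ _ _
  have hmB2 : mB ≫ pullback.snd pX pT = fB := (pullback.lift_snd _ _ _).trans (Category.comp_id _)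
  let WB := (FEt.restrict mB).obj W
  haveI : GeometricallyConnected qB := Groth.Agent.S2501.result qB
  haveI : GeometricallyConnected fB := MorphismProperty.pullback_snd qB pT inferInstance
  haveI : UniversallyOpen fB := MorphismProperty.pullback_snd qB pT inferInstance
  let J := Σ i : ι, B ⟶ X' i
  haveI : ∀ i, Finite (B ⟶ X' i) := fun i => by
    haveI := galoisCategory (S := X)
    exact Finite.of_injective (fun f => (fiberFin x).map f b) fun f g h =>
      PreGaloisCategory.evaluation_injective_of_isConnected (fiberFin x) B (X' i) b h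
  haveI : Finite J := inferInstance
  let g : ∀ p : J, pullback (T' p.1).hom fB ⟶ pullback ((X' p.1).hom ≫ pX) ((T' p.1).hom ≫ pT) := fun p =>
    pullback.lift (pullback.snd _ _ ≫ pullback.fst qB pT ≫ p.2.left) (pullback.fst _ _) (by
      have hw : p.2.left ≫ (X' p.1).hom = aB := MorphismProperty.Over.w p.2
      simp only [Category.assoc, reassoc_of% hw]
      rw [show pullback.fst qB pT ≫ aB ≫ pX = pullback.snd qB pT ≫ pT from pullback.condition,
        reassoc_of% (pullback.condition (f := (T' p.1).hom) (g := fB))])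
  let c : ∀ p : J, (FEt.restrict fB).obj (T' p.1) ⟶ WB := fun p =>
    MorphismProperty.Over.homMk (pullback.lift (g p ≫ φ p.1) (pullback.snd _ _) (by
      rw [Category.assoc, hφ]
      refine pullback.hom_ext ?_ ?_
      · simp only [g, Category.assoc, hmB1, pullback.lift_fst, pullback.lift_fst_assoc]
        refine congrArg (fun l => pullback.snd _ _ ≫ pullback.fst qB pT ≫ l) ?_
        exact MorphismProperty.Over.w p.2
      · simp only [g, Category.assoc, hmB2, pullback.lift_snd, pullback.lift_snd_assoc]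
        exact pullback.condition))
      (pullback.lift_snd _ _ _)
  haveI : PreservesFiniteColimits (FEt.restrict fB) := (Groth.Agent.S0285.result fB).2
  haveI : PreservesColimit (Discrete.functor fun p : J => T' p.1) (FEt.restrict fB) := inferInstance
  haveI : HasCoproduct fun p : J => T' p.1 := inferInstance
  let V₀ : FEt.Cat T := ∐ fun p : J => T' p.1
  let I := PreservesCoproduct.iso (FEt.restrict fB) (fun p : J => T' p.1)
  let e : (FEt.restrict fB).obj V₀ ⟶ WB := I.hom ≫ Limits.Sigma.desc c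
  have hU : ∀ p, Set.range (c p).left.base ⊆ Set.range e.left.base := by
    intro p
    have h1 : (Limits.Sigma.ι _ p ≫ I.inv).left ≫ e.left = (c p).left := by
      refine congrArg (fun l : (FEt.restrict fB).obj (T' p.1) ⟶ WB => l.left) ?_
        (a₁ := (Limits.Sigma.ι _ p ≫ I.inv) ≫ e)
      simp [e]
    rintro _ ⟨z, rfl⟩
    exact ⟨(Limits.Sigma.ι _ p ≫ I.inv).left.base z, by rw [← Scheme.Hom.comp_apply, h1]⟩
  haveI : Surjective e.left := by
    refine ⟨fun z => ?_⟩
    obtain ⟨i, v, hv⟩ := hcov ((pullback.fst W.hom mB).base z)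
    -- a field-valued point of the fibre product
    obtain ⟨p, hp1, hp2⟩ := Scheme.Pullback.exists_preimage_pullback (f := φ i) (g := pullback.fst W.hom mB) v z hv
    let P := pullback (φ i) (pullback.fst W.hom mB)
    let ζ : Spec (P.residueField p) ⟶ P := P.fromSpecResidueField p
    let s : Spec (P.residueField p) ⟶ pullback ((X' i).hom ≫ pX) ((T' i).hom ≫ pT) := ζ ≫ pullback.fst _ _
    let zp : Spec (P.residueField p) ⟶ WB.left := ζ ≫ pullback.snd _ _
    have hzp : zp.base (IsLocalRing.closedPoint (P.residueField p)) = z := by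
      rw [Scheme.Hom.comp_apply]
      exact (congrArg (pullback.snd (φ i) (pullback.fst W.hom mB)).base (Scheme.fromSpecResidueField_apply p _)).trans hp2
    have hsz : s ≫ φ i = zp ≫ pullback.fst W.hom mB := by
      simp only [s, zp, Category.assoc]
      exact congrArg (ζ ≫ ·) pullback.condition
    have hzW : (zp ≫ pullback.fst W.hom mB) ≫ W.hom = (zp ≫ WB.hom) ≫ mB := by
      simp only [Category.assoc]
      exact congrArg (zp ≫ ·) pullback.condition
    have hx : (s ≫ pullback.fst _ _) ≫ (X' i).hom = ((zp ≫ WB.hom) ≫ pullback.fst qB pT) ≫ B.hom := by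
      have h1 := congrArg (fun l => l ≫ pullback.fst pX pT) ((congrArg (· ≫ W.hom) hsz).trans hzW)
      simp only [Category.assoc, reassoc_of% (hφ i), pullback.lift_fst] at h1
      rw [show zp ≫ WB.hom ≫ mB ≫ pullback.fst pX pT = zp ≫ WB.hom ≫ _ from
        congrArg (fun l => zp ≫ WB.hom ≫ l) hmB1] at h1
      simpa only [Category.assoc] using h1
    have ht : (s ≫ pullback.snd _ _) ≫ (T' i).hom = (zp ≫ WB.hom) ≫ fB := by
      have h1 := congrArg (fun l => l ≫ pullback.snd pX pT) ((congrArg (· ≫ W.hom) hsz).trans hzW)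
      simp only [Category.assoc, reassoc_of% (hφ i), pullback.lift_snd] at h1
      rw [show zp ≫ WB.hom ≫ mB ≫ pullback.snd pX pT = zp ≫ WB.hom ≫ _ from
        congrArg (fun l => zp ≫ WB.hom ≫ l) hmB2] at h1
      simpa only [Category.assoc] using h1
    let gam : Spec (P.residueField p) ⟶ pullback (X' i).hom B.hom :=
      pullback.lift (s ≫ pullback.fst _ _) ((zp ≫ WB.hom) ≫ pullback.fst qB pT) hx
    obtain ⟨f, y, hy⟩ := exists_graph x B b (X' i) (hev i) (gam.base (IsLocalRing.closedPoint (P.residueField p)))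
    let gf : B.left ⟶ pullback (X' i).hom B.hom :=
      pullback.lift f.left (𝟙 _) ((MorphismProperty.Over.w f).trans (Category.id_comp _).symm)
    have hsn : FEt.prop (pullback.snd (X' i).hom B.hom) := MorphismProperty.pullback_snd _ _ (X' i).prop
    haveI : Etale (pullback.snd (X' i).hom B.hom) := hsn.2
    haveI : IsOpenImmersion gf := by
      haveI : IsOpenImmersion (gf ≫ pullback.snd (X' i).hom B.hom) := by
        rw [pullback.lift_snd]; infer_instance
      haveI := (prop_of_comp gf (pullback.snd (X' i).hom B.hom) hsn (by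
        rw [pullback.lift_snd]; exact MorphismProperty.id_mem _ _)).2
      haveI : Mono gf := SplitMono.mono ⟨pullback.snd _ _, pullback.lift_snd _ _ _⟩
      exact IsOpenImmersion.of_flat_of_mono gf
    let β := IsOpenImmersion.lift gf gam (by
      rintro _ ⟨q, rfl⟩
      rw [show q = IsLocalRing.closedPoint (P.residueField p) from
        @Subsingleton.elim _ (inferInstanceAs (Subsingleton (PrimeSpectrum (P.residueField p)))) _ _]
      exact ⟨y, hy⟩)
    have hβ : β ≫ gf = gam := IsOpenImmersion.lift_fac _ _ _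
    have hβ2 : β = (zp ≫ WB.hom) ≫ pullback.fst qB pT := by
      have := congrArg (· ≫ pullback.snd _ _) hβ
      simpa [gf, gam] using this
    have hβ1 : β ≫ f.left = s ≫ pullback.fst _ _ := by
      have := congrArg (· ≫ pullback.fst _ _) hβ
      simpa [gf, gam] using this
    let u : Spec (P.residueField p) ⟶ pullback (T' i).hom fB := pullback.lift (s ≫ pullback.snd _ _) (zp ≫ WB.hom) ht
    have hu : u ≫ (c ⟨i, f⟩).left = zp := by
      refine pullback.hom_ext ?_ ?_
      · show (u ≫ pullback.lift (g ⟨i, f⟩ ≫ φ i) _ _) ≫ pullback.fst W.hom mB = _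
        rw [Category.assoc, pullback.lift_fst, ← hsz, ← Category.assoc]
        refine congrArg (· ≫ φ i) (pullback.hom_ext ?_ ?_)
        · simp only [u, g, Category.assoc, pullback.lift_fst, pullback.lift_snd_assoc]
          rw [← Category.assoc, ← Category.assoc, ← hβ2]
          exact hβ1
        · simp only [u, g, Category.assoc, pullback.lift_fst, pullback.lift_snd]
      · show (u ≫ pullback.lift _ (pullback.snd _ _) _) ≫ pullback.snd W.hom mB = _
        rw [Category.assoc, pullback.lift_snd, pullback.lift_snd]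
        rfl
    exact hU ⟨i, f⟩ ⟨u.base (IsLocalRing.closedPoint (P.residueField p)),
      ((Scheme.Hom.comp_apply u (c ⟨i, f⟩).left _).symm.trans
        (congrArg (fun l : Spec (P.residueField p) ⟶ WB.left => l.base (IsLocalRing.closedPoint (P.residueField p))) hu)).trans hzp⟩
  obtain ⟨U, ⟨i⟩⟩ := Pi1Ext.exists_iso_of_surjective fB
    (fun W' C hC => Pi1Ext.exists_clopen_preimage fB W' C hC) V₀ e
  exact ⟨B, hB, U, ⟨i⟩⟩

omit [IsProper pX] [ConnectedSpace X] in
/-- Rational points lift to connected covers. -/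
theorem exists_lift_point (A : FEt.Cat T) [ConnectedSpace A.left] (y : Spec (CommRingCat.of k) ⟶ T) :
    ∃ a : Spec (CommRingCat.of k) ⟶ A.left, a ≫ A.hom = y := by
  let aA : A.left ⟶ T := A.hom
  haveI : IsFinite aA := A.prop.1
  haveI : Etale aA := A.prop.2
  have hsurj : Set.range aA.base = Set.univ :=
    IsClopen.eq_univ ⟨aA.isClosedMap.isClosed_range, aA.isOpenMap.isOpen_range⟩ (Set.range_nonempty _)
  obtain ⟨w, hw⟩ := hsurj.ge (Set.mem_univ (y.base (IsLocalRing.closedPoint k)))
  obtain ⟨⟨s, hs⟩, -⟩ := exists_lift_at y aA w hw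
  exact ⟨s, hs⟩

omit [ConnectedSpace X] [IsLocallyNoetherian T] in
/-- Restrictions to two rational points of the parameter space, proper first factor. -/
theorem nonempty_iso_left [IsLocallyNoetherian T] (W : FEt.Cat (pullback pX pT))
    (y y' : Spec (CommRingCat.of k) ⟶ T) (hy : y ≫ pT = 𝟙 _) (hy' : y' ≫ pT = 𝟙 _) :
    Nonempty ((FEt.restrict (Prod.sect pX pT y hy)).obj W ≅ (FEt.restrict (Prod.sect pX pT y' hy')).obj W) := by
  obtain ⟨A, hA, V, ⟨i⟩⟩ := Prod.exists_trivialization pX pT y hy W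
  haveI := hA
  have key : ∀ (z : Spec (CommRingCat.of k) ⟶ T) (hz : z ≫ pT = 𝟙 _),
      Nonempty ((FEt.restrict (Prod.sect pX pT z hz)).obj W ≅ V) := fun z hz => by
    obtain ⟨a, ha⟩ := exists_lift_point A z
    let q : X ⟶ pullback pX (A.hom ≫ pT) := pullback.lift (𝟙 X) (pX ≫ a)
      (by rw [Category.id_comp, Category.assoc, ← Category.assoc a, ha, hz, Category.comp_id])
    have h2 : q ≫ pullback.map pX (A.hom ≫ pT) pX pT (𝟙 _) A.hom (𝟙 _) (by simp) (by simp) =
        Prod.sect pX pT z hz := by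
      refine pullback.hom_ext ?_ ?_
      · simp [q]
      · simp [q, ha]
    exact ⟨(congrIso h2 W).symm ≪≫ (compIso q _ W).symm ≪≫ (FEt.restrict q).mapIso i.symm ≪≫
      compIso q _ V ≪≫ congrIso (pullback.lift_fst _ _ _) V ≪≫ restrictIdIso V⟩
  exact ⟨(key y hy).some ≪≫ (key y' hy').some.symm⟩

/-- Restrictions to two rational points of the proper factor. -/
theorem nonempty_iso_right (W : FEt.Cat (pullback pX pT))
    (y y' : Spec (CommRingCat.of k) ⟶ X) (hy : y ≫ pX = 𝟙 _) (hy' : y' ≫ pX = 𝟙 _) :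
    Nonempty ((FEt.restrict (pullback.lift (f := pX) (g := pT) (pT ≫ y) (𝟙 T)
        (by rw [Category.assoc, hy, Category.comp_id, Category.id_comp]))).obj W ≅
      (FEt.restrict (pullback.lift (f := pX) (g := pT) (pT ≫ y') (𝟙 T)
        (by rw [Category.assoc, hy', Category.comp_id, Category.id_comp]))).obj W) := by
  obtain ⟨B, hB, U, ⟨i⟩⟩ := exists_trivialization_right pX pT W
  haveI := hB
  have key : ∀ (z : Spec (CommRingCat.of k) ⟶ X) (hz : z ≫ pX = 𝟙 _),
      Nonempty ((FEt.restrict (pullback.lift (f := pX) (g := pT) (pT ≫ z) (𝟙 T)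
        (by rw [Category.assoc, hz, Category.comp_id, Category.id_comp]))).obj W ≅ U) := fun z hz => by
    haveI : IsLocallyNoetherian X := LocallyOfFiniteType.isLocallyNoetherian pX
    obtain ⟨a, ha⟩ := exists_lift_point B z
    let q : T ⟶ pullback (B.hom ≫ pX) pT := pullback.lift (pT ≫ a) (𝟙 T)
      (by rw [Category.id_comp, Category.assoc, ← Category.assoc a, ha, hz, Category.comp_id])
    have h2 : q ≫ pullback.map (B.hom ≫ pX) pT pX pT B.hom (𝟙 _) (𝟙 _) (by simp) (by simp) =
        pullback.lift (pT ≫ z) (𝟙 T) (by rw [Category.assoc, hz, Category.comp_id, Category.id_comp]) := by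
      refine pullback.hom_ext ?_ ?_
      · simp [q, ha]
      · simp [q]
    exact ⟨(congrIso h2 W).symm ≪≫ (compIso q _ W).symm ≪≫ (FEt.restrict q).mapIso i.symm ≪≫
      compIso q _ U ≪≫ congrIso (pullback.lift_snd _ _ _) U ≪≫ restrictIdIso U⟩
  exact ⟨(key y hy).some ≪≫ (key y' hy').some.symm⟩

omit [IsAlgClosed k] in
/-- An endomorphism of a point fixed by a morphism from a non-empty scheme is the identity. -/
theorem eq_id_of_comp {U : Scheme.{u}} [Nonempty U] (p : U ⟶ Spec (CommRingCat.of k))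
    (e : Spec (CommRingCat.of k) ⟶ Spec (CommRingCat.of k)) (h : p ≫ e = p) : e = 𝟙 _ := by
  obtain ⟨u⟩ := ‹Nonempty U›
  obtain ⟨r, rfl⟩ := Spec.map_surjective e
  obtain ⟨ρ, hρ⟩ := Spec.map_surjective (U.fromSpecResidueField u ≫ p)
  have h1 : r ≫ ρ = ρ := Spec.map_injective (by
    rw [Spec.map_comp, hρ, Category.assoc, h])
  rw [show r = 𝟙 _ from CommRingCat.hom_ext (RingHom.ext fun a => ρ.hom.injective congr($(h1).hom a)), Spec.map_id]

/-- Restrictions of a cover of a product to two rational points of a factor are isomorphic. -/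
theorem nonempty_iso {X Y : Scheme.{u}} (pX : X ⟶ Spec (CommRingCat.of k)) (pY : Y ⟶ Spec (CommRingCat.of k))
    [IsLocallyNoetherian X] [IsLocallyNoetherian Y] [ConnectedSpace Y] (hprop : IsProper pX ∨ IsProper pY)
    (Z : FEt.Cat (pullback pX pY))
    (y y' : Spec (CommRingCat.of k) ⟶ Y) (hy : 𝟙 X ≫ pX = (pX ≫ y) ≫ pY) (hy' : 𝟙 X ≫ pX = (pX ≫ y') ≫ pY) :
    Nonempty ((FEt.restrict (pullback.lift (𝟙 X) (pX ≫ y) hy)).obj Z ≅
      (FEt.restrict (pullback.lift (𝟙 X) (pX ≫ y') hy')).obj Z) := by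
  haveI := SecComp5.locallyConnectedSpace X
  refine Glue.nonempty_iso_of_components fun U hUc hUn => ?_
  haveI : ConnectedSpace ↥(U : Scheme.{u}) := isConnected_iff_connectedSpace.1 hUn
  haveI : Nonempty ↥(U : Scheme.{u}) := ‹ConnectedSpace ↥(U : Scheme.{u})›.toNonempty
  let p₀ : (U : Scheme.{u}) ⟶ Spec (CommRingCat.of k) := U.ι ≫ pX
  have hid : ∀ z : Spec (CommRingCat.of k) ⟶ Y, 𝟙 X ≫ pX = (pX ≫ z) ≫ pY → z ≫ pY = 𝟙 _ := fun z hz =>
    eq_id_of_comp p₀ _ (by
      have := congrArg (U.ι ≫ ·) hz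
      simpa [p₀] using this.symm)
  have hU : FEt.prop U.ι := prop_ι_of_isClopen U hUc
  haveI := hU.1
  rcases hprop with hX | hY
  · haveI := hX
    haveI : IsProper p₀ := inferInstance
    let σ : pullback p₀ pY ⟶ pullback pX pY := pullback.map p₀ pY pX pY U.ι (𝟙 _) (𝟙 _) (by simp [p₀]) (by simp)
    obtain ⟨e⟩ := nonempty_iso_left p₀ pY ((FEt.restrict σ).obj Z) y y' (hid y hy) (hid y' hy')
    have key : ∀ (z : Spec (CommRingCat.of k) ⟶ Y) (hz : 𝟙 X ≫ pX = (pX ≫ z) ≫ pY),
        Prod.sect p₀ pY z (hid z hz) ≫ σ = U.ι ≫ pullback.lift (𝟙 X) (pX ≫ z) hz := fun z hz => by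
      refine pullback.hom_ext ?_ ?_ <;> simp [σ, p₀]
      exact Category.id_comp U.ι
    exact ⟨compIso _ _ Z ≪≫ congrIso (key y hy).symm Z ≪≫ (compIso _ σ Z).symm ≪≫ e ≪≫
      compIso _ σ Z ≪≫ congrIso (key y' hy') Z ≪≫ (compIso _ _ Z).symm⟩
  · haveI := hY
    haveI : IsLocallyNoetherian (U : Scheme.{u}) := inferInstance
    let σ : pullback pY p₀ ⟶ pullback pX pY := pullback.lift (pullback.snd _ _ ≫ U.ι) (pullback.fst _ _) (by
      rw [Category.assoc]; exact pullback.condition.symm)
    obtain ⟨e⟩ := nonempty_iso_right pY p₀ ((FEt.restrict σ).obj Z) y y' (hid y hy) (hid y' hy')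
    have key : ∀ (z : Spec (CommRingCat.of k) ⟶ Y) (hz : 𝟙 X ≫ pX = (pX ≫ z) ≫ pY),
        pullback.lift (f := pY) (g := p₀) (p₀ ≫ z) (𝟙 (U : Scheme.{u}))
          (by rw [Category.assoc, hid z hz, Category.comp_id, Category.id_comp]) ≫ σ =
        U.ι ≫ pullback.lift (𝟙 X) (pX ≫ z) hz := fun z hz => by
      refine pullback.hom_ext ?_ ?_ <;> simp [σ, p₀]
      exact Category.id_comp U.ι
    exact ⟨compIso _ _ Z ≪≫ congrIso (key y hy).symm Z ≪≫ (compIso _ σ Z).symm ≪≫ e ≪≫
      compIso _ σ Z ≪≫ congrIso (key y' hy') Z ≪≫ (compIso _ _ Z).symm⟩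

end Groth.Agent.Pi1Ext.GDesc.Const
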