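import Groth.Agent.S12073
import Groth.Agent.MorLib.BaseChangeLim

/-!
# Isomorphisms of finite étale covers descend along limits
-/

set_option linter.style.haveILetI false
set_option backward.isDefEq.respectTransparency false
set_option backward.isDefEq.respectTransparency.types false

universe u

open CategoryTheory CategoryTheory.Limits AlgebraicGeometry

noncomputable section

namespace Groth.Agent.Pi1Ext.GDesc.Lim

open Groth.Agent

variable {I : Type u} [SmallCategory I] [IsCofiltered I] (D : I ⥤ Scheme.{u}) (c : Cone D) (hc : IsLimit c)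
  [∀ (i j : I) (f : i ⟶ j), IsAffineHom (D.map f)] [∀ i, CompactSpace (D.obj i)]
  [∀ i, QuasiSeparatedSpace (D.obj i)]

/-- The projection from the pullback over the limit to the pullback at a stage. -/
def proj {i j : I} (V : FEt.Cat (D.obj i)) (a : j ⟶ i) :
    pullback V.hom (c.π.app i) ⟶ pullback V.hom (D.map a) :=
  pullback.lift (pullback.fst _ _) (pullback.snd _ _ ≫ c.π.app j)
    (by rw [Category.assoc, c.w]; exact pullback.condition)

include hc in
/-- A morphism of covers over the limit comes from a stage. -/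
theorem exists_hom_stage {i : I} (V W : FEt.Cat (D.obj i))
    (g : (FEt.restrict (c.π.app i)).obj V ⟶ (FEt.restrict (c.π.app i)).obj W) :
    ∃ (j : I) (a : j ⟶ i) (γ : pullback V.hom (D.map a) ⟶ W.left),
      γ ≫ W.hom = pullback.snd V.hom (D.map a) ≫ D.map a ∧
      proj D c V a ≫ γ = g.left ≫ pullback.fst W.hom (c.π.app i) := by
  haveI : ∀ {i j : I} (f : i ⟶ j), IsAffineHom (D.map f) := fun {i j} f => inferInstance
  haveI : IsFinite V.hom := V.prop.1
  haveI : Etale W.hom := W.prop.2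
  let v : V.left ⟶ D.obj i := V.hom
  haveI : IsFinite v := ‹IsFinite V.hom›
  haveI : CompactSpace V.left := QuasiCompact.compactSpace_of_compactSpace v
  haveI : QuasiSeparatedSpace V.left := quasiSeparatedSpace_of_quasiSeparated v
  let B := MorLib.BC.diag D v
  haveI : ∀ {j k : Over i} (f : j ⟶ k), IsAffineHom (B.map f) := fun f => MorLib.BC.isAffineHom_map D v f
  haveI : ∀ j, CompactSpace (B.obj j) := fun j => MorLib.BC.compactSpace_obj D v j
  haveI : ∀ j, QuasiSeparatedSpace (B.obj j) := fun j => MorLib.BC.quasiSeparatedSpace_obj D v j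
  let hX := IsPullback.of_hasPullback v (c.π.app i)
  let t : B ⟶ (Functor.const (Over i)).obj (D.obj i) :=
    MorLib.BC.toStart D v ≫ (Functor.const (Over i)).map v
  obtain ⟨k, γ, hγ, hγ'⟩ := Scheme.exists_π_app_comp_eq_of_locallyOfFinitePresentation B t W.hom
    (MorLib.BC.cone D v hX) (MorLib.BC.isLimitCone D v hX hc) (g.left ≫ pullback.fst W.hom (c.π.app i)) (by
      ext k
      show MorLib.BC.proj D v hX k ≫ pullback.fst _ _ ≫ v = _
      rw [MorLib.BC.proj_fst_assoc]
      refine pullback.condition.trans ?_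
      show _ = (g.left ≫ pullback.fst W.hom (c.π.app i)) ≫ W.hom
      rw [Category.assoc, pullback.condition, ← Category.assoc]
      exact congrArg (· ≫ c.π.app i) (MorphismProperty.Over.w g).symm)
  refine ⟨k.left, k.hom, γ, hγ'.trans ?_, hγ⟩
  show pullback.fst _ _ ≫ v = _
  exact pullback.condition

include hc in
/-- Isomorphisms of covers over the limit come from a stage. -/
theorem exists_iso_stage {i : I} (V W : FEt.Cat (D.obj i))
    (g : (FEt.restrict (c.π.app i)).obj V ≅ (FEt.restrict (c.π.app i)).obj W) :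
    ∃ (j : I) (a : j ⟶ i),
      Nonempty ((FEt.restrict (D.map a)).obj V ≅ (FEt.restrict (D.map a)).obj W) := by
  obtain ⟨j₁, a₁, γ₁, h₁, h₁'⟩ := exists_hom_stage D c hc V W g.hom
  obtain ⟨j₂, a₂, γ₂, h₂, h₂'⟩ := exists_hom_stage D c hc W V g.inv
  obtain ⟨j, b₁, b₂, hb⟩ := IsCofiltered.cospan a₁ a₂
  -- both morphisms at a common stage
  have key : ∀ {j' : I} (V W : FEt.Cat (D.obj i)) (a' : j' ⟶ i) (b : j ⟶ j') (γ : pullback V.hom (D.map a') ⟶ W.left)
      (_ : γ ≫ W.hom = pullback.snd V.hom (D.map a') ≫ D.map a')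
      (g : pullback V.hom (c.π.app i) ⟶ pullback W.hom (c.π.app i))
      (_ : proj D c V a' ≫ γ = g ≫ pullback.fst W.hom (c.π.app i)) (a : j ⟶ i) (_ : b ≫ a' = a),
      ∃ γ' : pullback V.hom (D.map a) ⟶ W.left, γ' ≫ W.hom = pullback.snd V.hom (D.map a) ≫ D.map a ∧
        proj D c V a ≫ γ' = g ≫ pullback.fst W.hom (c.π.app i) := by
    intro j' V W a' b γ hγ g hg a hab
    subst hab
    refine ⟨pullback.lift (pullback.fst _ _) (pullback.snd _ _ ≫ D.map b)
      (by rw [Category.assoc, ← D.map_comp]; exact pullback.condition) ≫ γ, ?_, ?_⟩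
    · rw [Category.assoc, hγ, pullback.lift_snd_assoc, Category.assoc, ← D.map_comp]
    · rw [← hg, ← Category.assoc]
      refine congrArg (· ≫ γ) (pullback.hom_ext ?_ ?_)
      · simp [proj]
      · simp [proj]
  obtain ⟨γ, hγ, hγ'⟩ := key V W a₁ b₁ γ₁ h₁ g.hom.left h₁' (b₁ ≫ a₁) rfl
  obtain ⟨δ, hδ, hδ'⟩ := key W V a₂ b₂ γ₂ h₂ g.inv.left h₂' (b₁ ≫ a₁) hb.symm
  let a := b₁ ≫ a₁
  let φ : (FEt.restrict (D.map a)).obj V ⟶ (FEt.restrict (D.map a)).obj W :=
    MorphismProperty.Over.homMk (pullback.lift γ (pullback.snd _ _) hγ) (pullback.lift_snd _ _ _)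
  let ψ : (FEt.restrict (D.map a)).obj W ⟶ (FEt.restrict (D.map a)).obj V :=
    MorphismProperty.Over.homMk (pullback.lift δ (pullback.snd _ _) hδ) (pullback.lift_snd _ _ _)
  -- the composites are identities over the limit
  have key' : ∀ (V W : FEt.Cat (D.obj i)) (γ : pullback V.hom (D.map a) ⟶ W.left)
      (hγ : γ ≫ W.hom = pullback.snd V.hom (D.map a) ≫ D.map a)
      (δ : pullback W.hom (D.map a) ⟶ V.left)
      (hδ : δ ≫ V.hom = pullback.snd W.hom (D.map a) ≫ D.map a)
      (g : (FEt.restrict (c.π.app i)).obj V ≅ (FEt.restrict (c.π.app i)).obj W)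
      (_ : proj D c V a ≫ γ = g.hom.left ≫ pullback.fst W.hom (c.π.app i))
      (_ : proj D c W a ≫ δ = g.inv.left ≫ pullback.fst V.hom (c.π.app i))
      (φ : (FEt.restrict (D.map a)).obj V ⟶ (FEt.restrict (D.map a)).obj W)
      (_ : φ.left = pullback.lift γ (pullback.snd _ _) hγ)
      (ψ : (FEt.restrict (D.map a)).obj W ⟶ (FEt.restrict (D.map a)).obj V)
      (_ : ψ.left = pullback.lift δ (pullback.snd _ _) hδ),
      (FEt.restrict (c.π.app j)).map (φ ≫ ψ) = (FEt.restrict (c.π.app j)).map (𝟙 _) := by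
    intro V W γ hγ δ hδ g h1 h2 φ hφ ψ hψ
    let z := pullback.fst ((FEt.restrict (D.map a)).obj V).hom (c.π.app j)
    let ρ : pullback ((FEt.restrict (D.map a)).obj V).hom (c.π.app j) ⟶ pullback V.hom (c.π.app i) :=
      pullback.lift (z ≫ pullback.fst _ _) (pullback.snd _ _) (by
        rw [Category.assoc, pullback.condition, ← Category.assoc]
        refine (congrArg (· ≫ D.map a) pullback.condition).trans ?_
        rw [Category.assoc, c.w])
    have hz : z = ρ ≫ proj D c V a := by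
      refine pullback.hom_ext ?_ ?_
      · simp [ρ, proj]
      · simp only [ρ, proj, Category.assoc, pullback.lift_snd, pullback.lift_snd_assoc]
        exact pullback.condition
    have hgs : g.hom.left ≫ pullback.snd W.hom (c.π.app i) = pullback.snd V.hom (c.π.app i) :=
      MorphismProperty.Over.w g.hom
    have hP : proj D c V a ≫ φ.left = g.hom.left ≫ proj D c W a := by
      rw [hφ]
      refine pullback.hom_ext ?_ ?_
      · simp only [Category.assoc, pullback.lift_fst, h1]
        exact congrArg (g.hom.left ≫ ·) (pullback.lift_fst _ _ _).symm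
      · simp only [Category.assoc, pullback.lift_snd, proj]
        exact ((congrArg (· ≫ c.π.app j) hgs).symm).trans (Category.assoc _ _ _)
    have hg1 : g.hom.left ≫ g.inv.left = 𝟙 _ := congrArg (fun m => m.left) g.hom_inv_id
    ext
    apply pullback.hom_ext
    · refine (pullback.lift_fst _ _ _).trans ((pullback.lift_fst _ _ _).trans ?_).symm
      show z ≫ 𝟙 _ = z ≫ φ.left ≫ ψ.left
      rw [Category.comp_id]
      refine (pullback.hom_ext ?_ ?_).symm
      · rw [hψ, Category.assoc, Category.assoc, pullback.lift_fst, hz, Category.assoc, reassoc_of% hP, h2,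
          ← Category.assoc g.hom.left, hg1, Category.id_comp, Category.assoc]
        exact congrArg (ρ ≫ ·) (pullback.lift_fst _ _ _).symm
      · rw [hψ, Category.assoc, Category.assoc, pullback.lift_snd, hφ, pullback.lift_snd]
    · exact (pullback.lift_snd _ _ _).trans (pullback.lift_snd _ _ _).symm
  obtain ⟨k₁, d₁, e₁⟩ := (S12073.result D c hc).2 j _ _ (φ ≫ ψ) (𝟙 _)
    (key' V W γ hγ δ hδ g hγ' hδ' φ rfl ψ rfl)
  obtain ⟨k₂, d₂, e₂⟩ := (S12073.result D c hc).2 j _ _ (ψ ≫ φ) (𝟙 _)
    (key' W V δ hδ γ hγ g.symm hδ' hγ' ψ rfl φ rfl)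
  obtain ⟨k, u₁, u₂, hu⟩ := IsCofiltered.cospan d₁ d₂
  have tr : ∀ {k' : I} (d : k' ⟶ j) (u : k ⟶ k') (_ : u ≫ d = u₁ ≫ d₁) {P Q : FEt.Cat (D.obj j)} (p q : P ⟶ Q),
      (FEt.restrict (D.map d)).map p = (FEt.restrict (D.map d)).map q →
      (FEt.restrict (D.map (u₁ ≫ d₁))).map p = (FEt.restrict (D.map (u₁ ≫ d₁))).map q := by
    intro k' d u hud P Q p q h
    rw [← hud]
    have e : D.map (u ≫ d) = D.map u ≫ D.map d := D.map_comp _ _
    have n := (MorphismProperty.Over.pullbackComp (P := FEt.prop) (Q := ⊤) (D.map u) (D.map d)).hom.naturality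
    have hh : (FEt.restrict (D.map u ≫ D.map d)).map p = (FEt.restrict (D.map u ≫ D.map d)).map q :=
      (cancel_mono ((MorphismProperty.Over.pullbackComp (P := FEt.prop) (Q := ⊤) (D.map u) (D.map d)).hom.app Q)).1
        ((n p).trans ((congrArg (fun m => _ ≫ (FEt.restrict (D.map u)).map m) h).trans (n q).symm))
    rw [e]
    exact hh
  refine ⟨k, (u₁ ≫ d₁) ≫ a, ⟨?_⟩⟩
  let E : (FEt.restrict (D.map (u₁ ≫ d₁))).obj ((FEt.restrict (D.map a)).obj V) ≅
      (FEt.restrict (D.map (u₁ ≫ d₁))).obj ((FEt.restrict (D.map a)).obj W) :=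
    { hom := (FEt.restrict _).map φ
      inv := (FEt.restrict _).map ψ
      hom_inv_id := ((FEt.restrict _).map_comp φ ψ).symm.trans ((tr d₁ u₁ rfl _ _ e₁).trans ((FEt.restrict _).map_id _))
      inv_hom_id := ((FEt.restrict _).map_comp ψ φ).symm.trans ((tr d₂ u₂ hu.symm _ _ e₂).trans ((FEt.restrict _).map_id _)) }
  exact eqToIso (congrArg (fun m => (FEt.restrict m).obj V) (D.map_comp (u₁ ≫ d₁) a)) ≪≫
    (MorphismProperty.Over.pullbackComp (P := FEt.prop) (Q := ⊤) (D.map (u₁ ≫ d₁)) (D.map a)).app V ≪≫ E ≪≫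
    ((MorphismProperty.Over.pullbackComp (P := FEt.prop) (Q := ⊤) (D.map (u₁ ≫ d₁)) (D.map a)).app W).symm ≪≫
    eqToIso (congrArg (fun m => (FEt.restrict m).obj W) (D.map_comp (u₁ ≫ d₁) a).symm)

end Groth.Agent.Pi1Ext.GDesc.Lim
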