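import Groth.Agent.Pi1Ext.GDesc.Nhd
import Groth.Prelude.Def_Pi1
import Groth.Agent.S0285
import Groth.Agent.DescLib.EtProper

/-!
# Covers trivial on geometric fibres descend along proper morphisms with connected geometric fibres
-/

set_option linter.style.haveILetI false
set_option backward.isDefEq.respectTransparency false
set_option backward.isDefEq.respectTransparency.types false

universe u

open CategoryTheory CategoryTheory.Limits AlgebraicGeometry

noncomputable section

namespace Groth.Agent.Pi1Ext.GDesc

open Groth.Agent FAlg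

/-- Proper surjective morphisms with connected geometric fibres. -/
theorem geoConn_of_proper {X S : Scheme.{u}} (f : X ⟶ S) [IsProper f] [Surjective f]
    (hconn : ∀ (K : Type u) [Field K] [IsAlgClosed K] (ξ : Spec (CommRingCat.of K) ⟶ S),
      ConnectedSpace ↑(pullback f ξ)) : GeoConn f :=
  ⟨DescLib.univSubmersive_of_universallyClosed f, hconn⟩

/-- Connected geometric fibres force surjectivity. -/
theorem surjective_of_connected_fibres {X S : Scheme.{u}} (f : X ⟶ S)
    (hconn : ∀ (K : Type u) [Field K] [IsAlgClosed K] (ξ : Spec (CommRingCat.of K) ⟶ S),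
      ConnectedSpace ↑(pullback f ξ)) : Surjective f := by
  refine ⟨fun s => ?_⟩
  let ξ := Spec.map (CommRingCat.ofHom (algebraMap (S.residueField s) (AlgebraicClosure (S.residueField s)))) ≫
    S.fromSpecResidueField s
  haveI := hconn _ ξ
  obtain ⟨z⟩ := (inferInstance : Nonempty ↑(pullback f ξ))
  refine ⟨(pullback.fst f ξ).base z, ?_⟩
  rw [← Scheme.Hom.comp_apply, pullback.condition, Scheme.Hom.comp_apply]
  exact Scheme.fromSpecResidueField_apply s _

/-- Restriction along such morphisms is fully faithful. -/
theorem fullyFaithful {X S : Scheme.{u}} (f : X ⟶ S) [GeoConn f] :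
    (FEt.restrict f).Full ∧ (FEt.restrict f).Faithful := by
  have h := (Groth.Agent.S2916.result f GeoConn.subm (GeoConn.conn (g := f))).2
  refine ⟨⟨fun {V W} ψ => ?_⟩, ⟨fun {V W} a b hab => ?_⟩⟩
  · haveI : Etale V.toComma.hom := V.prop.2
    haveI : Etale W.toComma.hom := W.prop.2
    obtain ⟨φ, hφ⟩ := (h V.toComma W.toComma).2 (CategoryTheory.Over.homMk ψ.left (MorphismProperty.Over.w ψ))
    exact ⟨MorphismProperty.Over.homMk φ.left (CategoryTheory.Over.w φ),
      MorphismProperty.Over.Hom.ext (congrArg CommaMorphism.left hφ)⟩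
  · haveI : Etale V.toComma.hom := V.prop.2
    haveI : Etale W.toComma.hom := W.prop.2
    have := (h V.toComma W.toComma).1 (a₁ := CategoryTheory.Over.homMk a.left (MorphismProperty.Over.w a))
      (a₂ := CategoryTheory.Over.homMk b.left (MorphismProperty.Over.w b))
      (CategoryTheory.Over.OverMorphism.ext (congrArg (fun m => m.left) hab))
    exact MorphismProperty.Over.Hom.ext (congrArg CommaMorphism.left this)

/-- A split cover of a scheme over `S` comes from `S`. -/
theorem exists_iso_of_isSplit {X S : Scheme.{u}} (g : X ⟶ S) (V : FEt.Cat X) (h : Pi1.IsSplit V) :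
    ∃ E : FEt.Cat S, Nonempty (V ≅ (FEt.restrict g).obj E) := by
  obtain ⟨ι, _, e, he⟩ := h
  haveI : PreservesFiniteColimits (FEt.restrict g) := (Groth.Agent.S0285.result g).2
  haveI : PreservesColimit (Discrete.functor fun _ : ι => UH.topObj S) (FEt.restrict g) := inferInstance
  let F : Cofan fun _ : ι => UH.topObj X := Cofan.mk V fun i =>
    MorphismProperty.Over.homMk (Sigma.ι (fun _ : ι => X) i ≫ e.inv) ((Category.assoc _ _ _).trans (he i))
  have hF : IsColimit F := mkCofanColimit _
    (fun s => MorphismProperty.Over.homMk (e.hom ≫ Sigma.desc fun i => (s.inj i).left) (by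
      rw [Category.assoc, ← Iso.eq_inv_comp]
      refine Limits.Sigma.hom_ext _ _ fun i => ?_
      refine (Limits.Sigma.ι_desc_assoc _ _ _).trans ?_
      exact (MorphismProperty.Over.w (s.inj i)).trans (he i).symm))
    (fun s i => MorphismProperty.Over.Hom.ext (by
      show (Sigma.ι (fun _ : ι => X) i ≫ e.inv) ≫ e.hom ≫ Sigma.desc _ = _
      rw [Category.assoc, e.inv_hom_id_assoc, Limits.Sigma.ι_desc]))
    (fun s m hm => MorphismProperty.Over.Hom.ext (by
      show m.left = e.hom ≫ Sigma.desc _
      rw [← Iso.inv_comp_eq]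
      refine Limits.Sigma.hom_ext _ _ fun i => ?_
      rw [Limits.Sigma.ι_desc, ← hm i]
      exact (Category.assoc _ _ _).symm))
  exact ⟨∐ fun _ : ι => UH.topObj S, ⟨hF.coconePointUniqueUpToIso (coproductIsCoproduct _) ≪≫
    Limits.Sigma.mapIso (fun _ => (UH.restrictTop g).symm) ≪≫
    (PreservesCoproduct.iso (FEt.restrict g) fun _ : ι => UH.topObj S).symm⟩⟩

/-- Covers trivial on all geometric fibres descend. -/
theorem mem_essImage_of_geomTrivial {X S : Scheme.{u}} (f : X ⟶ S) [IsProper f]
    (hconn : ∀ (K : Type u) [Field K] [IsAlgClosed K] (ξ : Spec (CommRingCat.of K) ⟶ S),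
      ConnectedSpace ↑(pullback f ξ))
    (V : FEt.Cat X)
    (hgeo : ∀ (K : Type u) [Field K] [IsAlgClosed K] (ξ : Spec (CommRingCat.of K) ⟶ S),
      ∃ E : FEt.Cat (Spec (CommRingCat.of K)), Nonempty ((FEt.restrict (pullback.fst f ξ)).obj V ≅
        (FEt.restrict (pullback.snd f ξ)).obj E)) :
    (FEt.restrict f).essImage V := by
  haveI := surjective_of_connected_fibres f hconn
  haveI := geoConn_of_proper f hconn
  exact mem_essImage f V fun y => exists_model f V y hgeo

end Groth.Agent.Pi1Ext.GDesc
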