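import Groth.Agent.Pi1Ext.FAlg.General
import Groth.Agent.Pi1Ext.GDesc.Limit
import Groth.Agent.Pi1Ext.GDesc.Descend
import Groth.Agent.Hensel.Colim
import Groth.Agent.S0239
import Groth.Agent.S0289

/-!
# Covers trivial on a geometric fibre are trivial étale locally on the base
-/

set_option linter.style.haveILetI false
set_option backward.isDefEq.respectTransparency false
set_option backward.isDefEq.respectTransparency.types false

universe u

open CategoryTheory CategoryTheory.Limits AlgebraicGeometry Opposite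

noncomputable section

namespace Groth.Agent.Pi1Ext.GDesc

open Groth.Agent FAlg

theorem uh_spec_purelyInseparable {L K : Type u} [Field L] [Field K] [Algebra L K] [IsPurelyInseparable L K] :
    IsIntegralHom (Spec.map (CommRingCat.ofHom (algebraMap L K))) ∧
      UniversallyInjective (Spec.map (CommRingCat.ofHom (algebraMap L K))) ∧
      Surjective (Spec.map (CommRingCat.ofHom (algebraMap L K))) := by
  refine ⟨IsIntegralHom.SpecMap_iff.mpr (show (algebraMap L K).IsIntegral from
    fun x => IsPurelyInseparable.isIntegral.isIntegral x), ?_,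
    ⟨fun x => ⟨IsLocalRing.closedPoint K, @Subsingleton.elim _ (inferInstanceAs (Subsingleton (PrimeSpectrum L))) _ _⟩⟩⟩
  refine ((tfae_universallyInjective _).out 0 1).2 fun M hM g₁ g₂ hg => ?_
  obtain ⟨a, rfl⟩ := Spec.map_surjective g₁
  obtain ⟨b, rfl⟩ := Spec.map_surjective g₂
  have hg' : CommRingCat.ofHom (algebraMap L K) ≫ a = CommRingCat.ofHom (algebraMap L K) ≫ b :=
    Spec.map_injective (by rw [Spec.map_comp, Spec.map_comp]; exact hg)
  congr 1
  ext1
  letI := hM
  exact IsPurelyInseparable.injective_comp_algebraMap L K M congr($(hg').hom)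

variable (R K : Type u) [CommRing R] [Field K] [Algebra R K]

theorem isMaximal_ker_proj : (RingHom.ker (Hensel.Henz.proj R K)).IsMaximal := by
  refine Ideal.isMaximal_iff.2 ⟨fun h => one_ne_zero ((map_one (Hensel.Henz.proj R K)).symm.trans h),
    fun J x hle hx hxJ => ?_⟩
  have hu : IsUnit x := Hensel.Henz.isUnit_iff.2 (isUnit_iff_ne_zero.2 hx)
  rw [J.eq_top_of_isUnit_mem hxJ hu]
  trivial

variable [IsAlgClosed K]

/-- The residue extension of the henselian neighbourhood is a universal homeomorphism. -/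
theorem isPurelyInseparable_residue (p : Ideal R) [p.IsPrime] [Algebra p.ResidueField K]
    [IsScalarTower R p.ResidueField K] [Algebra.IsAlgebraic p.ResidueField K]
    [(RingHom.ker (Hensel.Henz.proj R K)).IsMaximal] :
    letI := Ideal.Quotient.field (RingHom.ker (Hensel.Henz.proj R K))
    letI : Algebra (Hensel.Henz R K ⧸ RingHom.ker (Hensel.Henz.proj R K)) K :=
      (Ideal.Quotient.lift _ (Hensel.Henz.proj R K).toRingHom fun _ h => h).toAlgebra
    IsPurelyInseparable (Hensel.Henz R K ⧸ RingHom.ker (Hensel.Henz.proj R K)) K := by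
  let I := RingHom.ker (Hensel.Henz.proj R K)
  letI := Ideal.Quotient.field I
  let L := Hensel.Henz R K ⧸ I
  let ι : L →+* K := Ideal.Quotient.lift I (Hensel.Henz.proj R K).toRingHom fun _ h => h
  letI : Algebra L K := ι.toAlgebra
  have hker : ∀ r : R, algebraMap R K r = 0 ↔ r ∈ p := fun r => by
    rw [IsScalarTower.algebraMap_apply R p.ResidueField K, map_eq_zero,
      Ideal.algebraMap_residueField_eq_zero]
  let g : R →+* L := (Ideal.Quotient.mk I).comp (algebraMap R (Hensel.Henz R K))
  have hg : ∀ r, ι (g r) = algebraMap R K r := fun r => (Hensel.Henz.proj R K).commutes r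
  let ρ : p.ResidueField →+* L := Ideal.ResidueField.lift p g
    (fun r hr => ι.injective (by rw [hg, map_zero]; exact (hker r).2 hr))
    (fun r hr => isUnit_iff_ne_zero.2 fun h => hr ((hker r).1 (by rw [← hg, h, map_zero])))
  have hρ : ι.comp ρ = algebraMap p.ResidueField K := Ideal.ResidueField.ringHom_ext (RingHom.ext fun r => by
    show ι (ρ (algebraMap R p.ResidueField r)) = algebraMap p.ResidueField K (algebraMap R p.ResidueField r)
    rw [Ideal.ResidueField.lift_algebraMap, hg, ← IsScalarTower.algebraMap_apply])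
  letI : Algebra p.ResidueField L := ρ.toAlgebra
  haveI : IsScalarTower p.ResidueField L K := IsScalarTower.of_algebraMap_eq fun x => (congr($hρ x)).symm
  haveI : Algebra.IsAlgebraic L K := Algebra.IsAlgebraic.tower_top (K := p.ResidueField) L
  haveI : IsSepClosed L := by
    apply IsSepClosed.of_exists_root
    intro f hmon hirr hsep
    obtain ⟨q, hq, -, hqm⟩ := Polynomial.lifts_and_natDegree_eq_and_monic
      (f := Ideal.Quotient.mk I) (Polynomial.map_surjective _ Ideal.Quotient.mk_surjective f) hmon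
    have hdeg : (f.map ι).degree ≠ 0 := by
      rw [Polynomial.degree_map]; exact (Polynomial.degree_pos_of_irreducible hirr).ne'
    obtain ⟨α, hα⟩ := IsAlgClosed.exists_root (f.map ι) hdeg
    have hcomp : ι.comp (Ideal.Quotient.mk I) = (Hensel.Henz.proj R K).toRingHom := rfl
    have hα' : f.eval₂ ι α = 0 := by rw [← Polynomial.eval_map]; exact hα
    obtain ⟨a, ha, -⟩ := Hensel.Henz.exists_root_proj q hqm α
      (by rw [← hcomp, ← Polynomial.eval₂_map, hq]; exact hα')
      (by rw [← hcomp, ← Polynomial.eval₂_map, ← Polynomial.derivative_map, hq]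
          exact isUnit_iff_ne_zero.2 (hsep.eval₂_derivative_ne_zero ι hα'))
    exact ⟨Ideal.Quotient.mk I a, by rw [← hq, Polynomial.eval_map_apply, ha, map_zero]⟩
  exact Algebra.IsAlgebraic.isPurelyInseparable_of_isSepClosed

/-- A cover trivial on a geometric fibre comes from the henselian neighbourhood. -/
theorem exists_iso_henz (p : Ideal R) [p.IsPrime] [Algebra p.ResidueField K]
    [IsScalarTower R p.ResidueField K] [Algebra.IsAlgebraic p.ResidueField K]
    {X : Scheme.{u}} (f : X ⟶ Spec (CommRingCat.of R)) [IsProper f] (V : FEt.Cat X)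
    (E : FEt.Cat (Spec (CommRingCat.of K)))
    (e : (FEt.restrict (pullback.fst f (Spec.map (CommRingCat.ofHom (algebraMap R K))))).obj V ≅
      (FEt.restrict (pullback.snd f (Spec.map (CommRingCat.ofHom (algebraMap R K))))).obj E) :
    ∃ EA : FEt.Cat (Spec (CommRingCat.of (Hensel.Henz R K))), Nonempty
      ((FEt.restrict (pullback.fst f (Spec.map (CommRingCat.ofHom (algebraMap R (Hensel.Henz R K)))))).obj V ≅
      (FEt.restrict (pullback.snd f (Spec.map (CommRingCat.ofHom (algebraMap R (Hensel.Henz R K)))))).obj EA) := by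
  let A := Hensel.Henz R K
  let I := RingHom.ker (Hensel.Henz.proj R K)
  haveI : I.IsMaximal := isMaximal_ker_proj R K
  letI := Ideal.Quotient.field I
  let L := A ⧸ I
  let ι : L →+* K := Ideal.Quotient.lift I (Hensel.Henz.proj R K).toRingHom fun _ h => h
  letI : Algebra L K := ι.toAlgebra
  haveI : IsPurelyInseparable L K := isPurelyInseparable_residue R K p
  obtain ⟨u1, u2, u3⟩ := uh_spec_purelyInseparable (L := L) (K := K)
  haveI := u1; haveI := u2; haveI := u3
  let σ := Spec.map (CommRingCat.ofHom (algebraMap L K))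
  let a := Spec.map (CommRingCat.ofHom (algebraMap R A))
  let fA := pullback.snd f a
  let m := Spec.map (CommRingCat.ofHom (Ideal.Quotient.mk I))
  let i0 := pullback.fst fA m
  let q0 := pullback.snd fA m
  let jK := pullback.fst q0 σ
  haveI : IsIntegralHom jK := MorphismProperty.pullback_fst _ _ ‹_›
  haveI : UniversallyInjective jK := MorphismProperty.pullback_fst (P := @UniversallyInjective) _ _ ‹_›
  haveI : Surjective jK := MorphismProperty.pullback_fst (P := @Surjective) _ _ ‹_›
  haveI := Groth.Agent.S0289.result jK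
  haveI := Groth.Agent.S0289.result σ
  haveI : HenselianRing A I := Hensel.Henz.henselianRing
  haveI := Groth.Agent.S0239.result A I
  haveI : IsProper fA := MorphismProperty.pullback_snd f a inferInstance
  haveI := isEquivalence_proper I fA
  have hσ : σ ≫ m ≫ a = Spec.map (CommRingCat.ofHom (algebraMap R K)) := by
    rw [← Spec.map_comp, ← Spec.map_comp]
    exact congrArg Spec.map (CommRingCat.hom_ext (RingHom.ext fun r => (Hensel.Henz.proj R K).commutes r))
  let mK : pullback q0 σ ⟶ pullback f (Spec.map (CommRingCat.ofHom (algebraMap R K))) :=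
    pullback.lift (jK ≫ i0 ≫ pullback.fst f a) (pullback.snd q0 σ) (by
      rw [← hσ, Category.assoc, Category.assoc, pullback.condition,
        reassoc_of% (pullback.condition (f := fA) (g := m)), reassoc_of% (pullback.condition (f := q0) (g := σ))])
  have h1 : mK ≫ pullback.fst _ _ = jK ≫ i0 ≫ pullback.fst f a := pullback.lift_fst _ _ _
  have h2 : mK ≫ pullback.snd _ _ = pullback.snd q0 σ := pullback.lift_snd _ _ _
  let EL := (FEt.restrict σ).objPreimage E
  let EA := (FEt.restrict m).objPreimage EL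
  refine ⟨EA, ⟨(FEt.restrict i0).preimageIso ((FEt.restrict jK).preimageIso ?_)⟩⟩
  exact (FEt.restrict jK).mapIso (compIso i0 (pullback.fst f a) V) ≪≫
    compIso jK (i0 ≫ pullback.fst f a) V ≪≫ congrIso h1.symm V ≪≫
    (compIso mK _ V).symm ≪≫ (FEt.restrict mK).mapIso e ≪≫ compIso mK _ E ≪≫ congrIso h2 E ≪≫
    (FEt.restrict (pullback.snd q0 σ)).mapIso ((FEt.restrict σ).objObjPreimageIso E).symm ≪≫
    compIso (pullback.snd q0 σ) σ EL ≪≫ congrIso pullback.condition.symm EL ≪≫
    (compIso jK q0 EL).symm ≪≫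
    (FEt.restrict jK).mapIso ((FEt.restrict q0).mapIso ((FEt.restrict m).objObjPreimageIso EL).symm ≪≫
      compIso q0 m EA ≪≫ congrIso pullback.condition.symm EA ≪≫ (compIso i0 fA EA).symm)

omit [IsAlgClosed K] in
/-- An isomorphism over the henselian neighbourhood descends to an étale neighbourhood. -/
theorem exists_iso_nbhd {X : Scheme.{u}} (f : X ⟶ Spec (CommRingCat.of R)) [QuasiCompact f] [QuasiSeparated f]
    (V : FEt.Cat X) (EA : FEt.Cat (Spec (CommRingCat.of (Hensel.Henz R K))))
    (eA : (FEt.restrict (pullback.fst f (Spec.map (CommRingCat.ofHom (algebraMap R (Hensel.Henz R K)))))).obj V ≅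
      (FEt.restrict (pullback.snd f (Spec.map (CommRingCat.ofHom (algebraMap R (Hensel.Henz R K)))))).obj EA) :
    ∃ (N : Hensel.Nbhd R K) (E : FEt.Cat (Spec (CommRingCat.of N.B))), Nonempty
      ((FEt.restrict (pullback.snd f (Spec.map (CommRingCat.ofHom (algebraMap R N.B))))).obj E ≅
      (FEt.restrict (pullback.fst f (Spec.map (CommRingCat.ofHom (algebraMap R N.B))))).obj V) := by
  let rg : Hensel.NbhdCat R K ⥤ CommRingCat.{u} := Hensel.nbhdDiagram R K ⋙ Under.forget _
  let φ : (Functor.const (Hensel.NbhdCat R K)).obj (CommRingCat.of R) ⟶ rg :=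
    { app := fun X => CommRingCat.ofHom (algebraMap R X.N.B)
      naturality := fun X Y g => (Category.id_comp _).trans (Under.w ((Hensel.nbhdDiagram R K).map g)).symm }
  let c : Cocone rg := (Under.forget _).mapCocone (Hensel.nbhdCocone R K)
  haveI : IsConnected (Hensel.NbhdCat R K) := IsFiltered.isConnected _
  have hc : IsColimit c := isColimitOfPreserves _ (Hensel.isColimitNbhdCocone R K)
  let a : CommRingCat.of R ⟶ c.pt := CommRingCat.ofHom (algebraMap R (Hensel.Henz R K))
  have ha : ∀ N, φ.app N ≫ c.ι.app N = a := fun N =>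
    CommRingCat.hom_ext (RingHom.ext fun r => (Hensel.Henz.ofB N.N).commutes r)
  haveI : CompactSpace X := QuasiCompact.compactSpace_of_compactSpace f
  haveI : QuasiSeparatedSpace X := quasiSeparatedSpace_of_quasiSeparated f
  let D1 := Stage.specs rg
  haveI : ∀ (s t : (Hensel.NbhdCat R K)ᵒᵖ) (g : s ⟶ t), IsAffineHom (D1.map g) := fun s t g =>
    inferInstanceAs (IsAffineHom (Spec.map _))
  haveI : ∀ s, CompactSpace (D1.obj s) := fun s =>
    inferInstanceAs (CompactSpace ↥(Spec (rg.obj s.unop)))
  haveI : ∀ s, QuasiSeparatedSpace (D1.obj s) := fun s =>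
    inferInstanceAs (QuasiSeparatedSpace ↥(Spec (rg.obj s.unop)))
  obtain ⟨s, Es, ⟨es⟩⟩ := (S12073.result D1 (Stage.specCone rg c) (isLimitOfPreserves Scheme.Spec hc.op)).1 EA
  let D := Stage.diag rg φ f
  haveI : ∀ (s t : (Hensel.NbhdCat R K)ᵒᵖ) (g : s ⟶ t), IsAffineHom (D.map g) := fun _ _ g =>
    Stage.isAffineHom_map rg φ f g
  haveI : ∀ s, CompactSpace (D.obj s) := fun s => by
    show CompactSpace ↥(pullback f (Stage.str rg φ s))
    haveI : IsAffineHom (pullback.fst f (Stage.str rg φ s)) := MorphismProperty.pullback_fst _ _ inferInstance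
    exact QuasiCompact.compactSpace_of_compactSpace (pullback.fst f (Stage.str rg φ s))
  haveI : ∀ s, QuasiSeparatedSpace (D.obj s) := fun s => by
    show QuasiSeparatedSpace ↥(pullback f (Stage.str rg φ s))
    haveI : IsAffineHom (pullback.fst f (Stage.str rg φ s)) := MorphismProperty.pullback_fst _ _ inferInstance
    exact quasiSeparatedSpace_of_quasiSeparated (pullback.fst f (Stage.str rg φ s))
  let π := Stage.proj rg c (φ := φ) (f := f) (a := a) (ha := ha) s
  have hp1 : π ≫ pullback.fst f (Stage.str rg φ s) = pullback.fst f (Spec.map a) := pullback.lift_fst _ _ _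
  have hp2 : π ≫ pullback.snd f (Stage.str rg φ s) = pullback.snd f (Spec.map a) ≫ (Stage.specCone rg c).π.app s :=
    pullback.lift_snd _ _ _
  obtain ⟨t, g, ⟨et⟩⟩ := Lim.exists_iso_stage D (Stage.cone rg φ c f a ha) (Stage.isLimitCone rg φ c f a ha hc)
    (i := s) ((FEt.restrict (pullback.fst f (Stage.str rg φ s))).obj V)
    ((FEt.restrict (pullback.snd f (Stage.str rg φ s))).obj Es)
    (compIso π _ V ≪≫ congrIso hp1 V ≪≫ eA ≪≫
      ((compIso π _ Es ≪≫ congrIso hp2 Es ≪≫ (compIso _ _ Es).symm ≪≫
        (FEt.restrict (pullback.snd f (Spec.map a))).mapIso es)).symm)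
  have hd1 : D.map g ≫ pullback.fst f (Stage.str rg φ s) = pullback.fst f (Stage.str rg φ t) := pullback.lift_fst _ _ _
  have hd2 : D.map g ≫ pullback.snd f (Stage.str rg φ s) = pullback.snd f (Stage.str rg φ t) ≫ D1.map g :=
    pullback.lift_snd _ _ _
  exact ⟨t.unop.N, (FEt.restrict (D1.map g)).obj Es,
    ⟨compIso (pullback.snd f (Stage.str rg φ t)) (D1.map g) Es ≪≫ congrIso hd2.symm Es ≪≫ (compIso _ _ Es).symm ≪≫
      et.symm ≪≫ compIso _ _ V ≪≫ congrIso hd1 V⟩⟩

/-- A cover trivial on every geometric fibre of a proper morphism has étale local models on the base. -/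
theorem exists_model {X Y : Scheme.{u}} (f : X ⟶ Y) [IsProper f] (V : FEt.Cat X) (y : Y)
    (hgeo : ∀ (Ω : Type u) [Field Ω] [IsAlgClosed Ω] (ξ : Spec (CommRingCat.of Ω) ⟶ Y),
      ∃ E : FEt.Cat (Spec (CommRingCat.of Ω)), Nonempty ((FEt.restrict (pullback.fst f ξ)).obj V ≅
        (FEt.restrict (pullback.snd f ξ)).obj E)) :
    Nonempty (UH.Model f V y) := by
  obtain ⟨_, ⟨W, hW, rfl⟩, hyW, -⟩ := Y.isBasis_affineOpens.exists_subset_of_mem_open
    (Set.mem_univ y) isOpen_univ
  let R : Type u := Γ(Y, W)
  let j : Spec (CommRingCat.of R) ⟶ Y := hW.fromSpec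
  obtain ⟨p, hp⟩ : y ∈ Set.range j.base := by rw [show Set.range j.base = _ from hW.range_fromSpec]; exact hyW
  let P : PrimeSpectrum R := p
  let K := AlgebraicClosure P.asIdeal.ResidueField
  let fR := pullback.snd f j
  haveI : IsProper fR := MorphismProperty.pullback_snd f j inferInstance
  let b := Spec.map (CommRingCat.ofHom (algebraMap R K))
  obtain ⟨E, ⟨e⟩⟩ := hgeo K (b ≫ j)
  let m : pullback fR b ⟶ pullback f (b ≫ j) :=
    pullback.lift (pullback.fst fR b ≫ pullback.fst f j) (pullback.snd fR b)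
      (by rw [Category.assoc, pullback.condition, reassoc_of% (pullback.condition (f := fR) (g := b))])
  have hm1 : m ≫ pullback.fst f (b ≫ j) = pullback.fst fR b ≫ pullback.fst f j := pullback.lift_fst _ _ _
  have hm2 : m ≫ pullback.snd f (b ≫ j) = pullback.snd fR b := pullback.lift_snd _ _ _
  obtain ⟨EA, ⟨eA⟩⟩ := exists_iso_henz R K P.asIdeal fR ((FEt.restrict (pullback.fst f j)).obj V) E
    (compIso _ _ V ≪≫ congrIso hm1.symm V ≪≫ (compIso m _ V).symm ≪≫ (FEt.restrict m).mapIso e ≪≫
      compIso m _ E ≪≫ congrIso hm2 E)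
  obtain ⟨N, EN, ⟨eN⟩⟩ := exists_iso_nbhd R K fR ((FEt.restrict (pullback.fst f j)).obj V) EA eA
  let v := Spec.map (CommRingCat.ofHom (algebraMap R N.B))
  haveI : Etale v := (HasRingHomProperty.Spec_iff (P := @Etale)).mpr (RingHom.etale_algebraMap.mpr N.etale)
  let z : Spec (CommRingCat.of N.B) := (Spec.map (CommRingCat.ofHom N.toK.toRingHom)).base (IsLocalRing.closedPoint K)
  have hz : v.base z = p := by
    refine PrimeSpectrum.ext (Ideal.ext fun r => ?_)
    show N.toK (algebraMap R N.B r) ∈ IsLocalRing.maximalIdeal K ↔ r ∈ P.asIdeal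
    rw [IsLocalRing.maximalIdeal_eq_bot, Ideal.mem_bot, AlgHom.commutes,
      IsScalarTower.algebraMap_apply R P.asIdeal.ResidueField K, map_eq_zero, Ideal.algebraMap_residueField_eq_zero]
  exact ⟨{
    Y' := Spec (CommRingCat.of N.B)
    v := v ≫ j
    hv := inferInstance
    z := z
    hz := by rw [Scheme.Hom.comp_apply, hz, hp]
    X' := pullback fR v
    a := pullback.fst fR v ≫ pullback.fst f j
    b := pullback.snd fR v
    sq := (IsPullback.of_hasPullback fR v).paste_horiz (IsPullback.of_hasPullback f j)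
    E := EN
    κ := eN ≪≫ compIso _ _ V }⟩

end Groth.Agent.Pi1Ext.GDesc
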